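import Cfsg.Agent.H15.TC3
import Cfsg.Agent.H15.ONa.T0
import Cfsg.Agent.H15.ONa.T1
import Cfsg.Agent.H15.ONa.T2
import Cfsg.Agent.H15.ONa.T3
set_option autoImplicit false
set_option maxRecDepth 100000

namespace Cfsg.Agent.H15.ONa
open Cfsg.Agent.H15 Cfsg.Agent.H14

noncomputable def t1_0 (i : ℕ) : ℕ := (Bool.rec (Bool.rec (Bool.rec (t0_0 i) (t0_8 i) (Nat.ble (nat_lit 8) i)) (Bool.rec (t0_16 i) (t0_24 i) (Nat.ble (nat_lit 24) i)) (Nat.ble (nat_lit 16) i)) (Bool.rec (Bool.rec (t0_32 i) (t0_40 i) (Nat.ble (nat_lit 40) i)) (Bool.rec (t0_48 i) (t0_56 i) (Nat.ble (nat_lit 56) i)) (Nat.ble (nat_lit 48) i)) (Nat.ble (nat_lit 32) i))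
noncomputable def t1_8 (i : ℕ) : ℕ := (Bool.rec (Bool.rec (Bool.rec (t0_64 i) (t0_72 i) (Nat.ble (nat_lit 72) i)) (Bool.rec (t0_80 i) (t0_88 i) (Nat.ble (nat_lit 88) i)) (Nat.ble (nat_lit 80) i)) (Bool.rec (Bool.rec (t0_96 i) (t0_104 i) (Nat.ble (nat_lit 104) i)) (Bool.rec (t0_112 i) (t0_120 i) (Nat.ble (nat_lit 120) i)) (Nat.ble (nat_lit 112) i)) (Nat.ble (nat_lit 96) i))
noncomputable def t1_16 (i : ℕ) : ℕ := (Bool.rec (Bool.rec (Bool.rec (t0_128 i) (t0_136 i) (Nat.ble (nat_lit 136) i)) (Bool.rec (t0_144 i) (t0_152 i) (Nat.ble (nat_lit 152) i)) (Nat.ble (nat_lit 144) i)) (Bool.rec (Bool.rec (t0_160 i) (t0_168 i) (Nat.ble (nat_lit 168) i)) (Bool.rec (t0_176 i) (t0_184 i) (Nat.ble (nat_lit 184) i)) (Nat.ble (nat_lit 176) i)) (Nat.ble (nat_lit 160) i))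
noncomputable def t1_24 (i : ℕ) : ℕ := (Bool.rec (Bool.rec (Bool.rec (t0_192 i) (t0_200 i) (Nat.ble (nat_lit 200) i)) (Bool.rec (t0_208 i) (t0_216 i) (Nat.ble (nat_lit 216) i)) (Nat.ble (nat_lit 208) i)) (Bool.rec (Bool.rec (t0_224 i) (t0_232 i) (Nat.ble (nat_lit 232) i)) (Bool.rec (t0_240 i) (t0_248 i) (Nat.ble (nat_lit 248) i)) (Nat.ble (nat_lit 240) i)) (Nat.ble (nat_lit 224) i))
noncomputable def t1_32 (i : ℕ) : ℕ := (Bool.rec (Bool.rec (Bool.rec (t0_256 i) (t0_264 i) (Nat.ble (nat_lit 264) i)) (Bool.rec (t0_272 i) (t0_280 i) (Nat.ble (nat_lit 280) i)) (Nat.ble (nat_lit 272) i)) (Bool.rec (Bool.rec (t0_288 i) (t0_296 i) (Nat.ble (nat_lit 296) i)) (Bool.rec (t0_304 i) (t0_312 i) (Nat.ble (nat_lit 312) i)) (Nat.ble (nat_lit 304) i)) (Nat.ble (nat_lit 288) i))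
noncomputable def t1_40 (i : ℕ) : ℕ := (Bool.rec (Bool.rec (Bool.rec (t0_320 i) (t0_328 i) (Nat.ble (nat_lit 328) i)) (Bool.rec (t0_336 i) (t0_344 i) (Nat.ble (nat_lit 344) i)) (Nat.ble (nat_lit 336) i)) (Bool.rec (Bool.rec (t0_352 i) (t0_360 i) (Nat.ble (nat_lit 360) i)) (Bool.rec (t0_368 i) (t0_376 i) (Nat.ble (nat_lit 376) i)) (Nat.ble (nat_lit 368) i)) (Nat.ble (nat_lit 352) i))
noncomputable def t1_48 (i : ℕ) : ℕ := (Bool.rec (Bool.rec (Bool.rec (t0_384 i) (t0_392 i) (Nat.ble (nat_lit 392) i)) (Bool.rec (t0_400 i) (t0_408 i) (Nat.ble (nat_lit 408) i)) (Nat.ble (nat_lit 400) i)) (Bool.rec (Bool.rec (t0_416 i) (t0_424 i) (Nat.ble (nat_lit 424) i)) (Bool.rec (t0_432 i) (t0_440 i) (Nat.ble (nat_lit 440) i)) (Nat.ble (nat_lit 432) i)) (Nat.ble (nat_lit 416) i))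
noncomputable def t1_56 (i : ℕ) : ℕ := (Bool.rec (Bool.rec (Bool.rec (t0_448 i) (t0_456 i) (Nat.ble (nat_lit 456) i)) (Bool.rec (t0_464 i) (t0_472 i) (Nat.ble (nat_lit 472) i)) (Nat.ble (nat_lit 464) i)) (Bool.rec (Bool.rec (t0_480 i) (t0_488 i) (Nat.ble (nat_lit 488) i)) (Bool.rec (t0_496 i) (t0_504 i) (Nat.ble (nat_lit 504) i)) (Nat.ble (nat_lit 496) i)) (Nat.ble (nat_lit 480) i))
noncomputable def t1_64 (i : ℕ) : ℕ := (Bool.rec (Bool.rec (Bool.rec (t0_512 i) (t0_520 i) (Nat.ble (nat_lit 520) i)) (Bool.rec (t0_528 i) (t0_536 i) (Nat.ble (nat_lit 536) i)) (Nat.ble (nat_lit 528) i)) (Bool.rec (Bool.rec (t0_544 i) (t0_552 i) (Nat.ble (nat_lit 552) i)) (Bool.rec (t0_560 i) (t0_568 i) (Nat.ble (nat_lit 568) i)) (Nat.ble (nat_lit 560) i)) (Nat.ble (nat_lit 544) i))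
noncomputable def t1_72 (i : ℕ) : ℕ := (Bool.rec (Bool.rec (Bool.rec (t0_576 i) (t0_584 i) (Nat.ble (nat_lit 584) i)) (Bool.rec (t0_592 i) (t0_600 i) (Nat.ble (nat_lit 600) i)) (Nat.ble (nat_lit 592) i)) (Bool.rec (Bool.rec (t0_608 i) (t0_616 i) (Nat.ble (nat_lit 616) i)) (Bool.rec (t0_624 i) (t0_632 i) (Nat.ble (nat_lit 632) i)) (Nat.ble (nat_lit 624) i)) (Nat.ble (nat_lit 608) i))
noncomputable def t1_80 (i : ℕ) : ℕ := (Bool.rec (Bool.rec (Bool.rec (t0_640 i) (t0_648 i) (Nat.ble (nat_lit 648) i)) (Bool.rec (t0_656 i) (t0_664 i) (Nat.ble (nat_lit 664) i)) (Nat.ble (nat_lit 656) i)) (Bool.rec (Bool.rec (t0_672 i) (t0_680 i) (Nat.ble (nat_lit 680) i)) (Bool.rec (t0_688 i) (t0_696 i) (Nat.ble (nat_lit 696) i)) (Nat.ble (nat_lit 688) i)) (Nat.ble (nat_lit 672) i))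
noncomputable def t1_88 (i : ℕ) : ℕ := (Bool.rec (Bool.rec (Bool.rec (t0_704 i) (t0_712 i) (Nat.ble (nat_lit 712) i)) (Bool.rec (t0_720 i) (t0_728 i) (Nat.ble (nat_lit 728) i)) (Nat.ble (nat_lit 720) i)) (Bool.rec (Bool.rec (t0_736 i) (t0_744 i) (Nat.ble (nat_lit 744) i)) (Bool.rec (t0_752 i) (t0_760 i) (Nat.ble (nat_lit 760) i)) (Nat.ble (nat_lit 752) i)) (Nat.ble (nat_lit 736) i))
noncomputable def t1_96 (i : ℕ) : ℕ := (Bool.rec (Bool.rec (Bool.rec (t0_768 i) (t0_776 i) (Nat.ble (nat_lit 776) i)) (Bool.rec (t0_784 i) (t0_792 i) (Nat.ble (nat_lit 792) i)) (Nat.ble (nat_lit 784) i)) (Bool.rec (Bool.rec (t0_800 i) (t0_808 i) (Nat.ble (nat_lit 808) i)) (Bool.rec (t0_816 i) (t0_824 i) (Nat.ble (nat_lit 824) i)) (Nat.ble (nat_lit 816) i)) (Nat.ble (nat_lit 800) i))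
noncomputable def t1_104 (i : ℕ) : ℕ := (Bool.rec (Bool.rec (Bool.rec (t0_832 i) (t0_840 i) (Nat.ble (nat_lit 840) i)) (Bool.rec (t0_848 i) (t0_856 i) (Nat.ble (nat_lit 856) i)) (Nat.ble (nat_lit 848) i)) (Bool.rec (Bool.rec (t0_864 i) (t0_872 i) (Nat.ble (nat_lit 872) i)) (Bool.rec (t0_880 i) (t0_888 i) (Nat.ble (nat_lit 888) i)) (Nat.ble (nat_lit 880) i)) (Nat.ble (nat_lit 864) i))
noncomputable def t1_112 (i : ℕ) : ℕ := (Bool.rec (Bool.rec (Bool.rec (t0_896 i) (t0_904 i) (Nat.ble (nat_lit 904) i)) (Bool.rec (t0_912 i) (t0_920 i) (Nat.ble (nat_lit 920) i)) (Nat.ble (nat_lit 912) i)) (Bool.rec (Bool.rec (t0_928 i) (t0_936 i) (Nat.ble (nat_lit 936) i)) (Bool.rec (t0_944 i) (t0_952 i) (Nat.ble (nat_lit 952) i)) (Nat.ble (nat_lit 944) i)) (Nat.ble (nat_lit 928) i))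
noncomputable def t1_120 (i : ℕ) : ℕ := (Bool.rec (Bool.rec (Bool.rec (t0_960 i) (t0_968 i) (Nat.ble (nat_lit 968) i)) (Bool.rec (t0_976 i) (t0_984 i) (Nat.ble (nat_lit 984) i)) (Nat.ble (nat_lit 976) i)) (Bool.rec (Bool.rec (t0_992 i) (t0_1000 i) (Nat.ble (nat_lit 1000) i)) (Bool.rec (t0_1008 i) (t0_1016 i) (Nat.ble (nat_lit 1016) i)) (Nat.ble (nat_lit 1008) i)) (Nat.ble (nat_lit 992) i))
noncomputable def t1_128 (i : ℕ) : ℕ := (Bool.rec (Bool.rec (Bool.rec (t0_1024 i) (t0_1032 i) (Nat.ble (nat_lit 1032) i)) (Bool.rec (t0_1040 i) (t0_1048 i) (Nat.ble (nat_lit 1048) i)) (Nat.ble (nat_lit 1040) i)) (Bool.rec (Bool.rec (t0_1056 i) (t0_1064 i) (Nat.ble (nat_lit 1064) i)) (Bool.rec (t0_1072 i) (t0_1080 i) (Nat.ble (nat_lit 1080) i)) (Nat.ble (nat_lit 1072) i)) (Nat.ble (nat_lit 1056) i))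
noncomputable def t1_136 (i : ℕ) : ℕ := (Bool.rec (Bool.rec (Bool.rec (t0_1088 i) (t0_1096 i) (Nat.ble (nat_lit 1096) i)) (Bool.rec (t0_1104 i) (t0_1112 i) (Nat.ble (nat_lit 1112) i)) (Nat.ble (nat_lit 1104) i)) (Bool.rec (Bool.rec (t0_1120 i) (t0_1128 i) (Nat.ble (nat_lit 1128) i)) (Bool.rec (t0_1136 i) (t0_1144 i) (Nat.ble (nat_lit 1144) i)) (Nat.ble (nat_lit 1136) i)) (Nat.ble (nat_lit 1120) i))
noncomputable def t1_144 (i : ℕ) : ℕ := (Bool.rec (Bool.rec (Bool.rec (t0_1152 i) (t0_1160 i) (Nat.ble (nat_lit 1160) i)) (Bool.rec (t0_1168 i) (t0_1176 i) (Nat.ble (nat_lit 1176) i)) (Nat.ble (nat_lit 1168) i)) (Bool.rec (Bool.rec (t0_1184 i) (t0_1192 i) (Nat.ble (nat_lit 1192) i)) (Bool.rec (t0_1200 i) (t0_1208 i) (Nat.ble (nat_lit 1208) i)) (Nat.ble (nat_lit 1200) i)) (Nat.ble (nat_lit 1184) i))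
noncomputable def t1_152 (i : ℕ) : ℕ := (Bool.rec (Bool.rec (Bool.rec (t0_1216 i) (t0_1224 i) (Nat.ble (nat_lit 1224) i)) (Bool.rec (t0_1232 i) (t0_1240 i) (Nat.ble (nat_lit 1240) i)) (Nat.ble (nat_lit 1232) i)) (Bool.rec (Bool.rec (t0_1248 i) (t0_1256 i) (Nat.ble (nat_lit 1256) i)) (Bool.rec (t0_1264 i) (t0_1272 i) (Nat.ble (nat_lit 1272) i)) (Nat.ble (nat_lit 1264) i)) (Nat.ble (nat_lit 1248) i))
noncomputable def t1_160 (i : ℕ) : ℕ := (Bool.rec (Bool.rec (Bool.rec (t0_1280 i) (t0_1288 i) (Nat.ble (nat_lit 1288) i)) (Bool.rec (t0_1296 i) (t0_1304 i) (Nat.ble (nat_lit 1304) i)) (Nat.ble (nat_lit 1296) i)) (Bool.rec (Bool.rec (t0_1312 i) (t0_1320 i) (Nat.ble (nat_lit 1320) i)) (Bool.rec (t0_1328 i) (t0_1336 i) (Nat.ble (nat_lit 1336) i)) (Nat.ble (nat_lit 1328) i)) (Nat.ble (nat_lit 1312) i))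
noncomputable def t1_168 (i : ℕ) : ℕ := (Bool.rec (Bool.rec (Bool.rec (t0_1344 i) (t0_1352 i) (Nat.ble (nat_lit 1352) i)) (Bool.rec (t0_1360 i) (t0_1368 i) (Nat.ble (nat_lit 1368) i)) (Nat.ble (nat_lit 1360) i)) (Bool.rec (Bool.rec (t0_1376 i) (t0_1384 i) (Nat.ble (nat_lit 1384) i)) (Bool.rec (t0_1392 i) (t0_1400 i) (Nat.ble (nat_lit 1400) i)) (Nat.ble (nat_lit 1392) i)) (Nat.ble (nat_lit 1376) i))
noncomputable def t1_176 (i : ℕ) : ℕ := (Bool.rec (Bool.rec (Bool.rec (t0_1408 i) (t0_1416 i) (Nat.ble (nat_lit 1416) i)) (Bool.rec (t0_1424 i) (t0_1432 i) (Nat.ble (nat_lit 1432) i)) (Nat.ble (nat_lit 1424) i)) (Bool.rec (Bool.rec (t0_1440 i) (t0_1448 i) (Nat.ble (nat_lit 1448) i)) (Bool.rec (t0_1456 i) (t0_1464 i) (Nat.ble (nat_lit 1464) i)) (Nat.ble (nat_lit 1456) i)) (Nat.ble (nat_lit 1440) i))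
noncomputable def t1_184 (i : ℕ) : ℕ := (Bool.rec (Bool.rec (Bool.rec (t0_1472 i) (t0_1480 i) (Nat.ble (nat_lit 1480) i)) (Bool.rec (t0_1488 i) (t0_1496 i) (Nat.ble (nat_lit 1496) i)) (Nat.ble (nat_lit 1488) i)) (Bool.rec (Bool.rec (t0_1504 i) (t0_1512 i) (Nat.ble (nat_lit 1512) i)) (Bool.rec (t0_1520 i) (t0_1528 i) (Nat.ble (nat_lit 1528) i)) (Nat.ble (nat_lit 1520) i)) (Nat.ble (nat_lit 1504) i))
noncomputable def t1_192 (i : ℕ) : ℕ := (Bool.rec (Bool.rec (Bool.rec (t0_1536 i) (t0_1544 i) (Nat.ble (nat_lit 1544) i)) (Bool.rec (t0_1552 i) (t0_1560 i) (Nat.ble (nat_lit 1560) i)) (Nat.ble (nat_lit 1552) i)) (Bool.rec (Bool.rec (t0_1568 i) (t0_1576 i) (Nat.ble (nat_lit 1576) i)) (Bool.rec (t0_1584 i) (t0_1592 i) (Nat.ble (nat_lit 1592) i)) (Nat.ble (nat_lit 1584) i)) (Nat.ble (nat_lit 1568) i))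
noncomputable def t1_200 (i : ℕ) : ℕ := (Bool.rec (Bool.rec (Bool.rec (t0_1600 i) (t0_1608 i) (Nat.ble (nat_lit 1608) i)) (Bool.rec (t0_1616 i) (t0_1624 i) (Nat.ble (nat_lit 1624) i)) (Nat.ble (nat_lit 1616) i)) (Bool.rec (Bool.rec (t0_1632 i) (t0_1640 i) (Nat.ble (nat_lit 1640) i)) (Bool.rec (t0_1648 i) (t0_1656 i) (Nat.ble (nat_lit 1656) i)) (Nat.ble (nat_lit 1648) i)) (Nat.ble (nat_lit 1632) i))
noncomputable def t1_208 (i : ℕ) : ℕ := (Bool.rec (Bool.rec (Bool.rec (t0_1664 i) (t0_1672 i) (Nat.ble (nat_lit 1672) i)) (Bool.rec (t0_1680 i) (t0_1688 i) (Nat.ble (nat_lit 1688) i)) (Nat.ble (nat_lit 1680) i)) (Bool.rec (Bool.rec (t0_1696 i) (t0_1704 i) (Nat.ble (nat_lit 1704) i)) (Bool.rec (t0_1712 i) (t0_1720 i) (Nat.ble (nat_lit 1720) i)) (Nat.ble (nat_lit 1712) i)) (Nat.ble (nat_lit 1696) i))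
noncomputable def t1_216 (i : ℕ) : ℕ := (Bool.rec (Bool.rec (Bool.rec (t0_1728 i) (t0_1736 i) (Nat.ble (nat_lit 1736) i)) (Bool.rec (t0_1744 i) (t0_1752 i) (Nat.ble (nat_lit 1752) i)) (Nat.ble (nat_lit 1744) i)) (Bool.rec (Bool.rec (t0_1760 i) (t0_1768 i) (Nat.ble (nat_lit 1768) i)) (Bool.rec (t0_1776 i) (t0_1784 i) (Nat.ble (nat_lit 1784) i)) (Nat.ble (nat_lit 1776) i)) (Nat.ble (nat_lit 1760) i))
noncomputable def t1_224 (i : ℕ) : ℕ := (Bool.rec (Bool.rec (Bool.rec (t0_1792 i) (t0_1800 i) (Nat.ble (nat_lit 1800) i)) (Bool.rec (t0_1808 i) (t0_1816 i) (Nat.ble (nat_lit 1816) i)) (Nat.ble (nat_lit 1808) i)) (Bool.rec (Bool.rec (t0_1824 i) (t0_1832 i) (Nat.ble (nat_lit 1832) i)) (Bool.rec (t0_1840 i) (t0_1848 i) (Nat.ble (nat_lit 1848) i)) (Nat.ble (nat_lit 1840) i)) (Nat.ble (nat_lit 1824) i))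
noncomputable def t1_232 (i : ℕ) : ℕ := (Bool.rec (Bool.rec (Bool.rec (t0_1856 i) (t0_1864 i) (Nat.ble (nat_lit 1864) i)) (Bool.rec (t0_1872 i) (t0_1880 i) (Nat.ble (nat_lit 1880) i)) (Nat.ble (nat_lit 1872) i)) (Bool.rec (Bool.rec (t0_1888 i) (t0_1896 i) (Nat.ble (nat_lit 1896) i)) (Bool.rec (t0_1904 i) (t0_1912 i) (Nat.ble (nat_lit 1912) i)) (Nat.ble (nat_lit 1904) i)) (Nat.ble (nat_lit 1888) i))
noncomputable def t1_240 (i : ℕ) : ℕ := (Bool.rec (Bool.rec (Bool.rec (t0_1920 i) (t0_1928 i) (Nat.ble (nat_lit 1928) i)) (Bool.rec (t0_1936 i) (t0_1944 i) (Nat.ble (nat_lit 1944) i)) (Nat.ble (nat_lit 1936) i)) (Bool.rec (Bool.rec (t0_1952 i) (t0_1960 i) (Nat.ble (nat_lit 1960) i)) (Bool.rec (t0_1968 i) (t0_1976 i) (Nat.ble (nat_lit 1976) i)) (Nat.ble (nat_lit 1968) i)) (Nat.ble (nat_lit 1952) i))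
noncomputable def t1_248 (i : ℕ) : ℕ := (Bool.rec (Bool.rec (Bool.rec (t0_1984 i) (t0_1992 i) (Nat.ble (nat_lit 1992) i)) (Bool.rec (t0_2000 i) (t0_2008 i) (Nat.ble (nat_lit 2008) i)) (Nat.ble (nat_lit 2000) i)) (Bool.rec (Bool.rec (t0_2016 i) (t0_2024 i) (Nat.ble (nat_lit 2024) i)) (Bool.rec (t0_2032 i) (t0_2040 i) (Nat.ble (nat_lit 2040) i)) (Nat.ble (nat_lit 2032) i)) (Nat.ble (nat_lit 2016) i))
noncomputable def t1_256 (i : ℕ) : ℕ := (Bool.rec (Bool.rec (Bool.rec (t0_2048 i) (t0_2056 i) (Nat.ble (nat_lit 2056) i)) (Bool.rec (t0_2064 i) (t0_2072 i) (Nat.ble (nat_lit 2072) i)) (Nat.ble (nat_lit 2064) i)) (Bool.rec (Bool.rec (t0_2080 i) (t0_2088 i) (Nat.ble (nat_lit 2088) i)) (Bool.rec (t0_2096 i) (t0_2104 i) (Nat.ble (nat_lit 2104) i)) (Nat.ble (nat_lit 2096) i)) (Nat.ble (nat_lit 2080) i))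
noncomputable def t1_264 (i : ℕ) : ℕ := (Bool.rec (Bool.rec (Bool.rec (t0_2112 i) (t0_2120 i) (Nat.ble (nat_lit 2120) i)) (Bool.rec (t0_2128 i) (t0_2136 i) (Nat.ble (nat_lit 2136) i)) (Nat.ble (nat_lit 2128) i)) (Bool.rec (Bool.rec (t0_2144 i) (t0_2152 i) (Nat.ble (nat_lit 2152) i)) (Bool.rec (t0_2160 i) (t0_2168 i) (Nat.ble (nat_lit 2168) i)) (Nat.ble (nat_lit 2160) i)) (Nat.ble (nat_lit 2144) i))
noncomputable def t1_272 (i : ℕ) : ℕ := (Bool.rec (Bool.rec (Bool.rec (t0_2176 i) (t0_2184 i) (Nat.ble (nat_lit 2184) i)) (Bool.rec (t0_2192 i) (t0_2200 i) (Nat.ble (nat_lit 2200) i)) (Nat.ble (nat_lit 2192) i)) (Bool.rec (Bool.rec (t0_2208 i) (t0_2216 i) (Nat.ble (nat_lit 2216) i)) (Bool.rec (t0_2224 i) (t0_2232 i) (Nat.ble (nat_lit 2232) i)) (Nat.ble (nat_lit 2224) i)) (Nat.ble (nat_lit 2208) i))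
noncomputable def t1_280 (i : ℕ) : ℕ := (Bool.rec (Bool.rec (Bool.rec (t0_2240 i) (t0_2248 i) (Nat.ble (nat_lit 2248) i)) (Bool.rec (t0_2256 i) (t0_2264 i) (Nat.ble (nat_lit 2264) i)) (Nat.ble (nat_lit 2256) i)) (Bool.rec (Bool.rec (t0_2272 i) (t0_2280 i) (Nat.ble (nat_lit 2280) i)) (Bool.rec (t0_2288 i) (t0_2296 i) (Nat.ble (nat_lit 2296) i)) (Nat.ble (nat_lit 2288) i)) (Nat.ble (nat_lit 2272) i))
noncomputable def t1_288 (i : ℕ) : ℕ := (Bool.rec (Bool.rec (Bool.rec (t0_2304 i) (t0_2312 i) (Nat.ble (nat_lit 2312) i)) (Bool.rec (t0_2320 i) (t0_2328 i) (Nat.ble (nat_lit 2328) i)) (Nat.ble (nat_lit 2320) i)) (Bool.rec (Bool.rec (t0_2336 i) (t0_2344 i) (Nat.ble (nat_lit 2344) i)) (Bool.rec (t0_2352 i) (t0_2360 i) (Nat.ble (nat_lit 2360) i)) (Nat.ble (nat_lit 2352) i)) (Nat.ble (nat_lit 2336) i))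
noncomputable def t1_296 (i : ℕ) : ℕ := (Bool.rec (Bool.rec (Bool.rec (t0_2368 i) (t0_2376 i) (Nat.ble (nat_lit 2376) i)) (Bool.rec (t0_2384 i) (t0_2392 i) (Nat.ble (nat_lit 2392) i)) (Nat.ble (nat_lit 2384) i)) (Bool.rec (Bool.rec (t0_2400 i) (t0_2408 i) (Nat.ble (nat_lit 2408) i)) (Bool.rec (t0_2416 i) (t0_2424 i) (Nat.ble (nat_lit 2424) i)) (Nat.ble (nat_lit 2416) i)) (Nat.ble (nat_lit 2400) i))
noncomputable def t1_304 (i : ℕ) : ℕ := (Bool.rec (Bool.rec (Bool.rec (t0_2432 i) (t0_2440 i) (Nat.ble (nat_lit 2440) i)) (Bool.rec (t0_2448 i) (t0_2456 i) (Nat.ble (nat_lit 2456) i)) (Nat.ble (nat_lit 2448) i)) (Bool.rec (Bool.rec (t0_2464 i) (t0_2472 i) (Nat.ble (nat_lit 2472) i)) (Bool.rec (t0_2480 i) (t0_2488 i) (Nat.ble (nat_lit 2488) i)) (Nat.ble (nat_lit 2480) i)) (Nat.ble (nat_lit 2464) i))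
noncomputable def t1_312 (i : ℕ) : ℕ := (Bool.rec (Bool.rec (Bool.rec (t0_2496 i) (t0_2504 i) (Nat.ble (nat_lit 2504) i)) (Bool.rec (t0_2512 i) (t0_2520 i) (Nat.ble (nat_lit 2520) i)) (Nat.ble (nat_lit 2512) i)) (Bool.rec (Bool.rec (t0_2528 i) (t0_2536 i) (Nat.ble (nat_lit 2536) i)) (Bool.rec (t0_2544 i) (t0_2552 i) (Nat.ble (nat_lit 2552) i)) (Nat.ble (nat_lit 2544) i)) (Nat.ble (nat_lit 2528) i))
noncomputable def t1_320 (i : ℕ) : ℕ := (Bool.rec (Bool.rec (Bool.rec (t0_2560 i) (t0_2568 i) (Nat.ble (nat_lit 2568) i)) (Bool.rec (t0_2576 i) (t0_2584 i) (Nat.ble (nat_lit 2584) i)) (Nat.ble (nat_lit 2576) i)) (Bool.rec (Bool.rec (t0_2592 i) (t0_2600 i) (Nat.ble (nat_lit 2600) i)) (Bool.rec (t0_2608 i) (t0_2616 i) (Nat.ble (nat_lit 2616) i)) (Nat.ble (nat_lit 2608) i)) (Nat.ble (nat_lit 2592) i))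
noncomputable def t1_328 (i : ℕ) : ℕ := (Bool.rec (Bool.rec (Bool.rec (t0_2624 i) (t0_2632 i) (Nat.ble (nat_lit 2632) i)) (Bool.rec (t0_2640 i) (t0_2648 i) (Nat.ble (nat_lit 2648) i)) (Nat.ble (nat_lit 2640) i)) (Bool.rec (Bool.rec (t0_2656 i) (t0_2664 i) (Nat.ble (nat_lit 2664) i)) (Bool.rec (t0_2672 i) (t0_2680 i) (Nat.ble (nat_lit 2680) i)) (Nat.ble (nat_lit 2672) i)) (Nat.ble (nat_lit 2656) i))
noncomputable def t1_336 (i : ℕ) : ℕ := (Bool.rec (Bool.rec (Bool.rec (t0_2688 i) (t0_2696 i) (Nat.ble (nat_lit 2696) i)) (Bool.rec (t0_2704 i) (t0_2712 i) (Nat.ble (nat_lit 2712) i)) (Nat.ble (nat_lit 2704) i)) (Bool.rec (Bool.rec (t0_2720 i) (t0_2728 i) (Nat.ble (nat_lit 2728) i)) (Bool.rec (t0_2736 i) (t0_2744 i) (Nat.ble (nat_lit 2744) i)) (Nat.ble (nat_lit 2736) i)) (Nat.ble (nat_lit 2720) i))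
noncomputable def t1_344 (i : ℕ) : ℕ := (Bool.rec (Bool.rec (Bool.rec (t0_2752 i) (t0_2760 i) (Nat.ble (nat_lit 2760) i)) (Bool.rec (t0_2768 i) (t0_2776 i) (Nat.ble (nat_lit 2776) i)) (Nat.ble (nat_lit 2768) i)) (Bool.rec (Bool.rec (t0_2784 i) (t0_2792 i) (Nat.ble (nat_lit 2792) i)) (Bool.rec (t0_2800 i) (t0_2808 i) (Nat.ble (nat_lit 2808) i)) (Nat.ble (nat_lit 2800) i)) (Nat.ble (nat_lit 2784) i))
noncomputable def t1_352 (i : ℕ) : ℕ := (Bool.rec (Bool.rec (Bool.rec (t0_2816 i) (t0_2824 i) (Nat.ble (nat_lit 2824) i)) (Bool.rec (t0_2832 i) (t0_2840 i) (Nat.ble (nat_lit 2840) i)) (Nat.ble (nat_lit 2832) i)) (Bool.rec (Bool.rec (t0_2848 i) (t0_2856 i) (Nat.ble (nat_lit 2856) i)) (Bool.rec (t0_2864 i) (t0_2872 i) (Nat.ble (nat_lit 2872) i)) (Nat.ble (nat_lit 2864) i)) (Nat.ble (nat_lit 2848) i))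
noncomputable def t1_360 (i : ℕ) : ℕ := (Bool.rec (Bool.rec (Bool.rec (t0_2880 i) (t0_2888 i) (Nat.ble (nat_lit 2888) i)) (Bool.rec (t0_2896 i) (t0_2904 i) (Nat.ble (nat_lit 2904) i)) (Nat.ble (nat_lit 2896) i)) (Bool.rec (Bool.rec (t0_2912 i) (t0_2920 i) (Nat.ble (nat_lit 2920) i)) (Bool.rec (t0_2928 i) (t0_2936 i) (Nat.ble (nat_lit 2936) i)) (Nat.ble (nat_lit 2928) i)) (Nat.ble (nat_lit 2912) i))
noncomputable def t1_368 (i : ℕ) : ℕ := (Bool.rec (Bool.rec (Bool.rec (t0_2944 i) (t0_2952 i) (Nat.ble (nat_lit 2952) i)) (Bool.rec (t0_2960 i) (t0_2968 i) (Nat.ble (nat_lit 2968) i)) (Nat.ble (nat_lit 2960) i)) (Bool.rec (Bool.rec (t0_2976 i) (t0_2984 i) (Nat.ble (nat_lit 2984) i)) (Bool.rec (t0_2992 i) (t0_3000 i) (Nat.ble (nat_lit 3000) i)) (Nat.ble (nat_lit 2992) i)) (Nat.ble (nat_lit 2976) i))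
noncomputable def t1_376 (i : ℕ) : ℕ := (Bool.rec (Bool.rec (Bool.rec (t0_3008 i) (t0_3016 i) (Nat.ble (nat_lit 3016) i)) (Bool.rec (t0_3024 i) (t0_3032 i) (Nat.ble (nat_lit 3032) i)) (Nat.ble (nat_lit 3024) i)) (Bool.rec (Bool.rec (t0_3040 i) (t0_3048 i) (Nat.ble (nat_lit 3048) i)) (Bool.rec (t0_3056 i) (t0_3064 i) (Nat.ble (nat_lit 3064) i)) (Nat.ble (nat_lit 3056) i)) (Nat.ble (nat_lit 3040) i))
noncomputable def t1_384 (i : ℕ) : ℕ := (Bool.rec (Bool.rec (Bool.rec (t0_3072 i) (t0_3080 i) (Nat.ble (nat_lit 3080) i)) (Bool.rec (t0_3088 i) (t0_3096 i) (Nat.ble (nat_lit 3096) i)) (Nat.ble (nat_lit 3088) i)) (Bool.rec (Bool.rec (t0_3104 i) (t0_3112 i) (Nat.ble (nat_lit 3112) i)) (Bool.rec (t0_3120 i) (t0_3128 i) (Nat.ble (nat_lit 3128) i)) (Nat.ble (nat_lit 3120) i)) (Nat.ble (nat_lit 3104) i))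
noncomputable def t1_392 (i : ℕ) : ℕ := (Bool.rec (Bool.rec (Bool.rec (t0_3136 i) (t0_3144 i) (Nat.ble (nat_lit 3144) i)) (Bool.rec (t0_3152 i) (t0_3160 i) (Nat.ble (nat_lit 3160) i)) (Nat.ble (nat_lit 3152) i)) (Bool.rec (Bool.rec (t0_3168 i) (t0_3176 i) (Nat.ble (nat_lit 3176) i)) (Bool.rec (t0_3184 i) (t0_3192 i) (Nat.ble (nat_lit 3192) i)) (Nat.ble (nat_lit 3184) i)) (Nat.ble (nat_lit 3168) i))
noncomputable def t1_400 (i : ℕ) : ℕ := (Bool.rec (Bool.rec (Bool.rec (t0_3200 i) (t0_3208 i) (Nat.ble (nat_lit 3208) i)) (Bool.rec (t0_3216 i) (t0_3224 i) (Nat.ble (nat_lit 3224) i)) (Nat.ble (nat_lit 3216) i)) (Bool.rec (Bool.rec (t0_3232 i) (t0_3240 i) (Nat.ble (nat_lit 3240) i)) (Bool.rec (t0_3248 i) (t0_3256 i) (Nat.ble (nat_lit 3256) i)) (Nat.ble (nat_lit 3248) i)) (Nat.ble (nat_lit 3232) i))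
noncomputable def t1_408 (i : ℕ) : ℕ := (Bool.rec (Bool.rec (Bool.rec (t0_3264 i) (t0_3272 i) (Nat.ble (nat_lit 3272) i)) (Bool.rec (t0_3280 i) (t0_3288 i) (Nat.ble (nat_lit 3288) i)) (Nat.ble (nat_lit 3280) i)) (Bool.rec (Bool.rec (t0_3296 i) (t0_3304 i) (Nat.ble (nat_lit 3304) i)) (Bool.rec (t0_3312 i) (t0_3320 i) (Nat.ble (nat_lit 3320) i)) (Nat.ble (nat_lit 3312) i)) (Nat.ble (nat_lit 3296) i))
noncomputable def t1_416 (i : ℕ) : ℕ := (Bool.rec (Bool.rec (Bool.rec (t0_3328 i) (t0_3336 i) (Nat.ble (nat_lit 3336) i)) (Bool.rec (t0_3344 i) (t0_3352 i) (Nat.ble (nat_lit 3352) i)) (Nat.ble (nat_lit 3344) i)) (Bool.rec (Bool.rec (t0_3360 i) (t0_3368 i) (Nat.ble (nat_lit 3368) i)) (Bool.rec (t0_3376 i) (t0_3384 i) (Nat.ble (nat_lit 3384) i)) (Nat.ble (nat_lit 3376) i)) (Nat.ble (nat_lit 3360) i))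
noncomputable def t1_424 (i : ℕ) : ℕ := (Bool.rec (Bool.rec (Bool.rec (t0_3392 i) (t0_3400 i) (Nat.ble (nat_lit 3400) i)) (Bool.rec (t0_3408 i) (t0_3416 i) (Nat.ble (nat_lit 3416) i)) (Nat.ble (nat_lit 3408) i)) (Bool.rec (Bool.rec (t0_3424 i) (t0_3432 i) (Nat.ble (nat_lit 3432) i)) (Bool.rec (t0_3440 i) (t0_3448 i) (Nat.ble (nat_lit 3448) i)) (Nat.ble (nat_lit 3440) i)) (Nat.ble (nat_lit 3424) i))
noncomputable def t1_432 (i : ℕ) : ℕ := (Bool.rec (Bool.rec (Bool.rec (t0_3456 i) (t0_3464 i) (Nat.ble (nat_lit 3464) i)) (Bool.rec (t0_3472 i) (t0_3480 i) (Nat.ble (nat_lit 3480) i)) (Nat.ble (nat_lit 3472) i)) (Bool.rec (Bool.rec (t0_3488 i) (t0_3496 i) (Nat.ble (nat_lit 3496) i)) (Bool.rec (t0_3504 i) (t0_3512 i) (Nat.ble (nat_lit 3512) i)) (Nat.ble (nat_lit 3504) i)) (Nat.ble (nat_lit 3488) i))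
noncomputable def t1_440 (i : ℕ) : ℕ := (Bool.rec (Bool.rec (Bool.rec (t0_3520 i) (t0_3528 i) (Nat.ble (nat_lit 3528) i)) (Bool.rec (t0_3536 i) (t0_3544 i) (Nat.ble (nat_lit 3544) i)) (Nat.ble (nat_lit 3536) i)) (Bool.rec (Bool.rec (t0_3552 i) (t0_3560 i) (Nat.ble (nat_lit 3560) i)) (Bool.rec (t0_3568 i) (t0_3576 i) (Nat.ble (nat_lit 3576) i)) (Nat.ble (nat_lit 3568) i)) (Nat.ble (nat_lit 3552) i))
noncomputable def t1_448 (i : ℕ) : ℕ := (Bool.rec (Bool.rec (Bool.rec (t0_3584 i) (t0_3592 i) (Nat.ble (nat_lit 3592) i)) (Bool.rec (t0_3600 i) (t0_3608 i) (Nat.ble (nat_lit 3608) i)) (Nat.ble (nat_lit 3600) i)) (Bool.rec (Bool.rec (t0_3616 i) (t0_3624 i) (Nat.ble (nat_lit 3624) i)) (Bool.rec (t0_3632 i) (t0_3640 i) (Nat.ble (nat_lit 3640) i)) (Nat.ble (nat_lit 3632) i)) (Nat.ble (nat_lit 3616) i))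
noncomputable def t1_456 (i : ℕ) : ℕ := (Bool.rec (Bool.rec (Bool.rec (t0_3648 i) (t0_3656 i) (Nat.ble (nat_lit 3656) i)) (Bool.rec (t0_3664 i) (t0_3672 i) (Nat.ble (nat_lit 3672) i)) (Nat.ble (nat_lit 3664) i)) (Bool.rec (Bool.rec (t0_3680 i) (t0_3688 i) (Nat.ble (nat_lit 3688) i)) (Bool.rec (t0_3696 i) (t0_3704 i) (Nat.ble (nat_lit 3704) i)) (Nat.ble (nat_lit 3696) i)) (Nat.ble (nat_lit 3680) i))
noncomputable def t1_464 (i : ℕ) : ℕ := (Bool.rec (Bool.rec (Bool.rec (t0_3712 i) (t0_3720 i) (Nat.ble (nat_lit 3720) i)) (Bool.rec (t0_3728 i) (t0_3736 i) (Nat.ble (nat_lit 3736) i)) (Nat.ble (nat_lit 3728) i)) (Bool.rec (Bool.rec (t0_3744 i) (t0_3752 i) (Nat.ble (nat_lit 3752) i)) (Bool.rec (t0_3760 i) (t0_3768 i) (Nat.ble (nat_lit 3768) i)) (Nat.ble (nat_lit 3760) i)) (Nat.ble (nat_lit 3744) i))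
noncomputable def t1_472 (i : ℕ) : ℕ := (Bool.rec (Bool.rec (Bool.rec (t0_3776 i) (t0_3784 i) (Nat.ble (nat_lit 3784) i)) (Bool.rec (t0_3792 i) (t0_3800 i) (Nat.ble (nat_lit 3800) i)) (Nat.ble (nat_lit 3792) i)) (Bool.rec (Bool.rec (t0_3808 i) (t0_3816 i) (Nat.ble (nat_lit 3816) i)) (Bool.rec (t0_3824 i) (t0_3832 i) (Nat.ble (nat_lit 3832) i)) (Nat.ble (nat_lit 3824) i)) (Nat.ble (nat_lit 3808) i))
noncomputable def t1_480 (i : ℕ) : ℕ := (Bool.rec (Bool.rec (Bool.rec (t0_3840 i) (t0_3848 i) (Nat.ble (nat_lit 3848) i)) (Bool.rec (t0_3856 i) (t0_3864 i) (Nat.ble (nat_lit 3864) i)) (Nat.ble (nat_lit 3856) i)) (Bool.rec (Bool.rec (t0_3872 i) (t0_3880 i) (Nat.ble (nat_lit 3880) i)) (Bool.rec (t0_3888 i) (t0_3896 i) (Nat.ble (nat_lit 3896) i)) (Nat.ble (nat_lit 3888) i)) (Nat.ble (nat_lit 3872) i))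
noncomputable def t1_488 (i : ℕ) : ℕ := (Bool.rec (Bool.rec (Bool.rec (t0_3904 i) (t0_3912 i) (Nat.ble (nat_lit 3912) i)) (Bool.rec (t0_3920 i) (t0_3928 i) (Nat.ble (nat_lit 3928) i)) (Nat.ble (nat_lit 3920) i)) (Bool.rec (Bool.rec (t0_3936 i) (t0_3944 i) (Nat.ble (nat_lit 3944) i)) (Bool.rec (t0_3952 i) (t0_3960 i) (Nat.ble (nat_lit 3960) i)) (Nat.ble (nat_lit 3952) i)) (Nat.ble (nat_lit 3936) i))
noncomputable def t1_496 (i : ℕ) : ℕ := (Bool.rec (Bool.rec (Bool.rec (t0_3968 i) (t0_3976 i) (Nat.ble (nat_lit 3976) i)) (Bool.rec (t0_3984 i) (t0_3992 i) (Nat.ble (nat_lit 3992) i)) (Nat.ble (nat_lit 3984) i)) (Bool.rec (Bool.rec (t0_4000 i) (t0_4008 i) (Nat.ble (nat_lit 4008) i)) (Bool.rec (t0_4016 i) (t0_4024 i) (Nat.ble (nat_lit 4024) i)) (Nat.ble (nat_lit 4016) i)) (Nat.ble (nat_lit 4000) i))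
noncomputable def t1_504 (i : ℕ) : ℕ := (Bool.rec (Bool.rec (Bool.rec (t0_4032 i) (t0_4040 i) (Nat.ble (nat_lit 4040) i)) (Bool.rec (t0_4048 i) (t0_4056 i) (Nat.ble (nat_lit 4056) i)) (Nat.ble (nat_lit 4048) i)) (Bool.rec (Bool.rec (t0_4064 i) (t0_4072 i) (Nat.ble (nat_lit 4072) i)) (Bool.rec (t0_4080 i) (t0_4088 i) (Nat.ble (nat_lit 4088) i)) (Nat.ble (nat_lit 4080) i)) (Nat.ble (nat_lit 4064) i))
noncomputable def t1_512 (i : ℕ) : ℕ := (Bool.rec (Bool.rec (Bool.rec (t0_4096 i) (t0_4104 i) (Nat.ble (nat_lit 4104) i)) (Bool.rec (t0_4112 i) (t0_4120 i) (Nat.ble (nat_lit 4120) i)) (Nat.ble (nat_lit 4112) i)) (Bool.rec (Bool.rec (t0_4128 i) (t0_4136 i) (Nat.ble (nat_lit 4136) i)) (Bool.rec (t0_4144 i) (t0_4152 i) (Nat.ble (nat_lit 4152) i)) (Nat.ble (nat_lit 4144) i)) (Nat.ble (nat_lit 4128) i))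
noncomputable def t1_520 (i : ℕ) : ℕ := (Bool.rec (Bool.rec (Bool.rec (t0_4160 i) (t0_4168 i) (Nat.ble (nat_lit 4168) i)) (Bool.rec (t0_4176 i) (t0_4184 i) (Nat.ble (nat_lit 4184) i)) (Nat.ble (nat_lit 4176) i)) (Bool.rec (Bool.rec (t0_4192 i) (t0_4200 i) (Nat.ble (nat_lit 4200) i)) (Bool.rec (t0_4208 i) (t0_4216 i) (Nat.ble (nat_lit 4216) i)) (Nat.ble (nat_lit 4208) i)) (Nat.ble (nat_lit 4192) i))
noncomputable def t1_528 (i : ℕ) : ℕ := (Bool.rec (Bool.rec (Bool.rec (t0_4224 i) (t0_4232 i) (Nat.ble (nat_lit 4232) i)) (Bool.rec (t0_4240 i) (t0_4248 i) (Nat.ble (nat_lit 4248) i)) (Nat.ble (nat_lit 4240) i)) (Bool.rec (Bool.rec (t0_4256 i) (t0_4264 i) (Nat.ble (nat_lit 4264) i)) (Bool.rec (t0_4272 i) (t0_4280 i) (Nat.ble (nat_lit 4280) i)) (Nat.ble (nat_lit 4272) i)) (Nat.ble (nat_lit 4256) i))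
noncomputable def t1_536 (i : ℕ) : ℕ := (Bool.rec (Bool.rec (Bool.rec (t0_4288 i) (t0_4296 i) (Nat.ble (nat_lit 4296) i)) (Bool.rec (t0_4304 i) (t0_4312 i) (Nat.ble (nat_lit 4312) i)) (Nat.ble (nat_lit 4304) i)) (Bool.rec (Bool.rec (t0_4320 i) (t0_4328 i) (Nat.ble (nat_lit 4328) i)) (Bool.rec (t0_4336 i) (t0_4344 i) (Nat.ble (nat_lit 4344) i)) (Nat.ble (nat_lit 4336) i)) (Nat.ble (nat_lit 4320) i))
noncomputable def t1_544 (i : ℕ) : ℕ := (Bool.rec (Bool.rec (Bool.rec (t0_4352 i) (t0_4360 i) (Nat.ble (nat_lit 4360) i)) (Bool.rec (t0_4368 i) (t0_4376 i) (Nat.ble (nat_lit 4376) i)) (Nat.ble (nat_lit 4368) i)) (Bool.rec (Bool.rec (t0_4384 i) (t0_4392 i) (Nat.ble (nat_lit 4392) i)) (Bool.rec (t0_4400 i) (t0_4408 i) (Nat.ble (nat_lit 4408) i)) (Nat.ble (nat_lit 4400) i)) (Nat.ble (nat_lit 4384) i))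
noncomputable def t1_552 (i : ℕ) : ℕ := (Bool.rec (Bool.rec (Bool.rec (t0_4416 i) (t0_4424 i) (Nat.ble (nat_lit 4424) i)) (Bool.rec (t0_4432 i) (t0_4440 i) (Nat.ble (nat_lit 4440) i)) (Nat.ble (nat_lit 4432) i)) (Bool.rec (Bool.rec (t0_4448 i) (t0_4456 i) (Nat.ble (nat_lit 4456) i)) (Bool.rec (t0_4464 i) (t0_4472 i) (Nat.ble (nat_lit 4472) i)) (Nat.ble (nat_lit 4464) i)) (Nat.ble (nat_lit 4448) i))
noncomputable def t1_560 (i : ℕ) : ℕ := (Bool.rec (Bool.rec (Bool.rec (t0_4480 i) (t0_4488 i) (Nat.ble (nat_lit 4488) i)) (Bool.rec (t0_4496 i) (t0_4504 i) (Nat.ble (nat_lit 4504) i)) (Nat.ble (nat_lit 4496) i)) (Bool.rec (Bool.rec (t0_4512 i) (t0_4520 i) (Nat.ble (nat_lit 4520) i)) (Bool.rec (t0_4528 i) (t0_4536 i) (Nat.ble (nat_lit 4536) i)) (Nat.ble (nat_lit 4528) i)) (Nat.ble (nat_lit 4512) i))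
noncomputable def t1_568 (i : ℕ) : ℕ := (Bool.rec (Bool.rec (Bool.rec (t0_4544 i) (t0_4552 i) (Nat.ble (nat_lit 4552) i)) (Bool.rec (t0_4560 i) (t0_4568 i) (Nat.ble (nat_lit 4568) i)) (Nat.ble (nat_lit 4560) i)) (Bool.rec (Bool.rec (t0_4576 i) (t0_4584 i) (Nat.ble (nat_lit 4584) i)) (Bool.rec (t0_4592 i) (t0_4600 i) (Nat.ble (nat_lit 4600) i)) (Nat.ble (nat_lit 4592) i)) (Nat.ble (nat_lit 4576) i))
noncomputable def t1_576 (i : ℕ) : ℕ := (Bool.rec (Bool.rec (Bool.rec (t0_4608 i) (t0_4616 i) (Nat.ble (nat_lit 4616) i)) (Bool.rec (t0_4624 i) (t0_4632 i) (Nat.ble (nat_lit 4632) i)) (Nat.ble (nat_lit 4624) i)) (Bool.rec (Bool.rec (t0_4640 i) (t0_4648 i) (Nat.ble (nat_lit 4648) i)) (Bool.rec (t0_4656 i) (t0_4664 i) (Nat.ble (nat_lit 4664) i)) (Nat.ble (nat_lit 4656) i)) (Nat.ble (nat_lit 4640) i))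
noncomputable def t1_584 (i : ℕ) : ℕ := (Bool.rec (Bool.rec (Bool.rec (t0_4672 i) (t0_4680 i) (Nat.ble (nat_lit 4680) i)) (Bool.rec (t0_4688 i) (t0_4696 i) (Nat.ble (nat_lit 4696) i)) (Nat.ble (nat_lit 4688) i)) (Bool.rec (Bool.rec (t0_4704 i) (t0_4712 i) (Nat.ble (nat_lit 4712) i)) (Bool.rec (t0_4720 i) (t0_4728 i) (Nat.ble (nat_lit 4728) i)) (Nat.ble (nat_lit 4720) i)) (Nat.ble (nat_lit 4704) i))
noncomputable def t1_592 (i : ℕ) : ℕ := (Bool.rec (Bool.rec (Bool.rec (t0_4736 i) (t0_4744 i) (Nat.ble (nat_lit 4744) i)) (Bool.rec (t0_4752 i) (t0_4760 i) (Nat.ble (nat_lit 4760) i)) (Nat.ble (nat_lit 4752) i)) (Bool.rec (Bool.rec (t0_4768 i) (t0_4776 i) (Nat.ble (nat_lit 4776) i)) (Bool.rec (t0_4784 i) (t0_4792 i) (Nat.ble (nat_lit 4792) i)) (Nat.ble (nat_lit 4784) i)) (Nat.ble (nat_lit 4768) i))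
noncomputable def t1_600 (i : ℕ) : ℕ := (Bool.rec (Bool.rec (Bool.rec (t0_4800 i) (t0_4808 i) (Nat.ble (nat_lit 4808) i)) (Bool.rec (t0_4816 i) (t0_4824 i) (Nat.ble (nat_lit 4824) i)) (Nat.ble (nat_lit 4816) i)) (Bool.rec (Bool.rec (t0_4832 i) (t0_4840 i) (Nat.ble (nat_lit 4840) i)) (Bool.rec (t0_4848 i) (t0_4856 i) (Nat.ble (nat_lit 4856) i)) (Nat.ble (nat_lit 4848) i)) (Nat.ble (nat_lit 4832) i))
noncomputable def t1_608 (i : ℕ) : ℕ := (Bool.rec (Bool.rec (Bool.rec (t0_4864 i) (t0_4872 i) (Nat.ble (nat_lit 4872) i)) (Bool.rec (t0_4880 i) (t0_4888 i) (Nat.ble (nat_lit 4888) i)) (Nat.ble (nat_lit 4880) i)) (Bool.rec (Bool.rec (t0_4896 i) (t0_4904 i) (Nat.ble (nat_lit 4904) i)) (Bool.rec (t0_4912 i) (t0_4920 i) (Nat.ble (nat_lit 4920) i)) (Nat.ble (nat_lit 4912) i)) (Nat.ble (nat_lit 4896) i))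
noncomputable def t1_616 (i : ℕ) : ℕ := (Bool.rec (Bool.rec (Bool.rec (t0_4928 i) (t0_4936 i) (Nat.ble (nat_lit 4936) i)) (Bool.rec (t0_4944 i) (t0_4952 i) (Nat.ble (nat_lit 4952) i)) (Nat.ble (nat_lit 4944) i)) (Bool.rec (Bool.rec (t0_4960 i) (t0_4968 i) (Nat.ble (nat_lit 4968) i)) (Bool.rec (t0_4976 i) (t0_4984 i) (Nat.ble (nat_lit 4984) i)) (Nat.ble (nat_lit 4976) i)) (Nat.ble (nat_lit 4960) i))
noncomputable def t1_624 (i : ℕ) : ℕ := (Bool.rec (Bool.rec (Bool.rec (t0_4992 i) (t0_5000 i) (Nat.ble (nat_lit 5000) i)) (Bool.rec (t0_5008 i) (t0_5016 i) (Nat.ble (nat_lit 5016) i)) (Nat.ble (nat_lit 5008) i)) (Bool.rec (Bool.rec (t0_5024 i) (t0_5032 i) (Nat.ble (nat_lit 5032) i)) (Bool.rec (t0_5040 i) (t0_5048 i) (Nat.ble (nat_lit 5048) i)) (Nat.ble (nat_lit 5040) i)) (Nat.ble (nat_lit 5024) i))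
noncomputable def t1_632 (i : ℕ) : ℕ := (Bool.rec (Bool.rec (Bool.rec (t0_5056 i) (t0_5064 i) (Nat.ble (nat_lit 5064) i)) (Bool.rec (t0_5072 i) (t0_5080 i) (Nat.ble (nat_lit 5080) i)) (Nat.ble (nat_lit 5072) i)) (Bool.rec (Bool.rec (t0_5088 i) (t0_5096 i) (Nat.ble (nat_lit 5096) i)) (Bool.rec (t0_5104 i) (t0_5112 i) (Nat.ble (nat_lit 5112) i)) (Nat.ble (nat_lit 5104) i)) (Nat.ble (nat_lit 5088) i))
noncomputable def t1_640 (i : ℕ) : ℕ := (Bool.rec (Bool.rec (Bool.rec (t0_5120 i) (t0_5128 i) (Nat.ble (nat_lit 5128) i)) (Bool.rec (t0_5136 i) (t0_5144 i) (Nat.ble (nat_lit 5144) i)) (Nat.ble (nat_lit 5136) i)) (Bool.rec (Bool.rec (t0_5152 i) (t0_5160 i) (Nat.ble (nat_lit 5160) i)) (Bool.rec (t0_5168 i) (t0_5176 i) (Nat.ble (nat_lit 5176) i)) (Nat.ble (nat_lit 5168) i)) (Nat.ble (nat_lit 5152) i))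
noncomputable def t1_648 (i : ℕ) : ℕ := (Bool.rec (Bool.rec (Bool.rec (t0_5184 i) (t0_5192 i) (Nat.ble (nat_lit 5192) i)) (Bool.rec (t0_5200 i) (t0_5208 i) (Nat.ble (nat_lit 5208) i)) (Nat.ble (nat_lit 5200) i)) (Bool.rec (Bool.rec (t0_5216 i) (t0_5224 i) (Nat.ble (nat_lit 5224) i)) (Bool.rec (t0_5232 i) (t0_5240 i) (Nat.ble (nat_lit 5240) i)) (Nat.ble (nat_lit 5232) i)) (Nat.ble (nat_lit 5216) i))
noncomputable def t1_656 (i : ℕ) : ℕ := (Bool.rec (Bool.rec (Bool.rec (t0_5248 i) (t0_5256 i) (Nat.ble (nat_lit 5256) i)) (Bool.rec (t0_5264 i) (t0_5272 i) (Nat.ble (nat_lit 5272) i)) (Nat.ble (nat_lit 5264) i)) (Bool.rec (Bool.rec (t0_5280 i) (t0_5288 i) (Nat.ble (nat_lit 5288) i)) (Bool.rec (t0_5296 i) (t0_5304 i) (Nat.ble (nat_lit 5304) i)) (Nat.ble (nat_lit 5296) i)) (Nat.ble (nat_lit 5280) i))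
noncomputable def t1_664 (i : ℕ) : ℕ := (Bool.rec (Bool.rec (Bool.rec (t0_5312 i) (t0_5320 i) (Nat.ble (nat_lit 5320) i)) (Bool.rec (t0_5328 i) (t0_5336 i) (Nat.ble (nat_lit 5336) i)) (Nat.ble (nat_lit 5328) i)) (Bool.rec (Bool.rec (t0_5344 i) (t0_5352 i) (Nat.ble (nat_lit 5352) i)) (Bool.rec (t0_5360 i) (t0_5368 i) (Nat.ble (nat_lit 5368) i)) (Nat.ble (nat_lit 5360) i)) (Nat.ble (nat_lit 5344) i))
noncomputable def t1_672 (i : ℕ) : ℕ := (Bool.rec (Bool.rec (Bool.rec (t0_5376 i) (t0_5384 i) (Nat.ble (nat_lit 5384) i)) (Bool.rec (t0_5392 i) (t0_5400 i) (Nat.ble (nat_lit 5400) i)) (Nat.ble (nat_lit 5392) i)) (Bool.rec (Bool.rec (t0_5408 i) (t0_5416 i) (Nat.ble (nat_lit 5416) i)) (Bool.rec (t0_5424 i) (t0_5432 i) (Nat.ble (nat_lit 5432) i)) (Nat.ble (nat_lit 5424) i)) (Nat.ble (nat_lit 5408) i))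
noncomputable def t1_680 (i : ℕ) : ℕ := (Bool.rec (Bool.rec (Bool.rec (t0_5440 i) (t0_5448 i) (Nat.ble (nat_lit 5448) i)) (Bool.rec (t0_5456 i) (t0_5464 i) (Nat.ble (nat_lit 5464) i)) (Nat.ble (nat_lit 5456) i)) (Bool.rec (Bool.rec (t0_5472 i) (t0_5480 i) (Nat.ble (nat_lit 5480) i)) (Bool.rec (t0_5488 i) (t0_5496 i) (Nat.ble (nat_lit 5496) i)) (Nat.ble (nat_lit 5488) i)) (Nat.ble (nat_lit 5472) i))
noncomputable def t1_688 (i : ℕ) : ℕ := (Bool.rec (Bool.rec (Bool.rec (t0_5504 i) (t0_5512 i) (Nat.ble (nat_lit 5512) i)) (Bool.rec (t0_5520 i) (t0_5528 i) (Nat.ble (nat_lit 5528) i)) (Nat.ble (nat_lit 5520) i)) (Bool.rec (Bool.rec (t0_5536 i) (t0_5544 i) (Nat.ble (nat_lit 5544) i)) (Bool.rec (t0_5552 i) (t0_5560 i) (Nat.ble (nat_lit 5560) i)) (Nat.ble (nat_lit 5552) i)) (Nat.ble (nat_lit 5536) i))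
noncomputable def t1_696 (i : ℕ) : ℕ := (Bool.rec (Bool.rec (Bool.rec (t0_5568 i) (t0_5576 i) (Nat.ble (nat_lit 5576) i)) (Bool.rec (t0_5584 i) (t0_5592 i) (Nat.ble (nat_lit 5592) i)) (Nat.ble (nat_lit 5584) i)) (Bool.rec (Bool.rec (t0_5600 i) (t0_5608 i) (Nat.ble (nat_lit 5608) i)) (Bool.rec (t0_5616 i) (t0_5624 i) (Nat.ble (nat_lit 5624) i)) (Nat.ble (nat_lit 5616) i)) (Nat.ble (nat_lit 5600) i))
noncomputable def t1_704 (i : ℕ) : ℕ := (Bool.rec (Bool.rec (Bool.rec (t0_5632 i) (t0_5640 i) (Nat.ble (nat_lit 5640) i)) (Bool.rec (t0_5648 i) (t0_5656 i) (Nat.ble (nat_lit 5656) i)) (Nat.ble (nat_lit 5648) i)) (Bool.rec (Bool.rec (t0_5664 i) (t0_5672 i) (Nat.ble (nat_lit 5672) i)) (Bool.rec (t0_5680 i) (t0_5688 i) (Nat.ble (nat_lit 5688) i)) (Nat.ble (nat_lit 5680) i)) (Nat.ble (nat_lit 5664) i))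
noncomputable def t1_712 (i : ℕ) : ℕ := (Bool.rec (t0_5696 i) (t0_5704 i) (Nat.ble (nat_lit 5704) i))
noncomputable def t2_0 (i : ℕ) : ℕ := (Bool.rec (Bool.rec (Bool.rec (t1_0 i) (t1_8 i) (Nat.ble (nat_lit 64) i)) (Bool.rec (t1_16 i) (t1_24 i) (Nat.ble (nat_lit 192) i)) (Nat.ble (nat_lit 128) i)) (Bool.rec (Bool.rec (t1_32 i) (t1_40 i) (Nat.ble (nat_lit 320) i)) (Bool.rec (t1_48 i) (t1_56 i) (Nat.ble (nat_lit 448) i)) (Nat.ble (nat_lit 384) i)) (Nat.ble (nat_lit 256) i))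
noncomputable def t2_8 (i : ℕ) : ℕ := (Bool.rec (Bool.rec (Bool.rec (t1_64 i) (t1_72 i) (Nat.ble (nat_lit 576) i)) (Bool.rec (t1_80 i) (t1_88 i) (Nat.ble (nat_lit 704) i)) (Nat.ble (nat_lit 640) i)) (Bool.rec (Bool.rec (t1_96 i) (t1_104 i) (Nat.ble (nat_lit 832) i)) (Bool.rec (t1_112 i) (t1_120 i) (Nat.ble (nat_lit 960) i)) (Nat.ble (nat_lit 896) i)) (Nat.ble (nat_lit 768) i))
noncomputable def t2_16 (i : ℕ) : ℕ := (Bool.rec (Bool.rec (Bool.rec (t1_128 i) (t1_136 i) (Nat.ble (nat_lit 1088) i)) (Bool.rec (t1_144 i) (t1_152 i) (Nat.ble (nat_lit 1216) i)) (Nat.ble (nat_lit 1152) i)) (Bool.rec (Bool.rec (t1_160 i) (t1_168 i) (Nat.ble (nat_lit 1344) i)) (Bool.rec (t1_176 i) (t1_184 i) (Nat.ble (nat_lit 1472) i)) (Nat.ble (nat_lit 1408) i)) (Nat.ble (nat_lit 1280) i))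
noncomputable def t2_24 (i : ℕ) : ℕ := (Bool.rec (Bool.rec (Bool.rec (t1_192 i) (t1_200 i) (Nat.ble (nat_lit 1600) i)) (Bool.rec (t1_208 i) (t1_216 i) (Nat.ble (nat_lit 1728) i)) (Nat.ble (nat_lit 1664) i)) (Bool.rec (Bool.rec (t1_224 i) (t1_232 i) (Nat.ble (nat_lit 1856) i)) (Bool.rec (t1_240 i) (t1_248 i) (Nat.ble (nat_lit 1984) i)) (Nat.ble (nat_lit 1920) i)) (Nat.ble (nat_lit 1792) i))
noncomputable def t2_32 (i : ℕ) : ℕ := (Bool.rec (Bool.rec (Bool.rec (t1_256 i) (t1_264 i) (Nat.ble (nat_lit 2112) i)) (Bool.rec (t1_272 i) (t1_280 i) (Nat.ble (nat_lit 2240) i)) (Nat.ble (nat_lit 2176) i)) (Bool.rec (Bool.rec (t1_288 i) (t1_296 i) (Nat.ble (nat_lit 2368) i)) (Bool.rec (t1_304 i) (t1_312 i) (Nat.ble (nat_lit 2496) i)) (Nat.ble (nat_lit 2432) i)) (Nat.ble (nat_lit 2304) i))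
noncomputable def t2_40 (i : ℕ) : ℕ := (Bool.rec (Bool.rec (Bool.rec (t1_320 i) (t1_328 i) (Nat.ble (nat_lit 2624) i)) (Bool.rec (t1_336 i) (t1_344 i) (Nat.ble (nat_lit 2752) i)) (Nat.ble (nat_lit 2688) i)) (Bool.rec (Bool.rec (t1_352 i) (t1_360 i) (Nat.ble (nat_lit 2880) i)) (Bool.rec (t1_368 i) (t1_376 i) (Nat.ble (nat_lit 3008) i)) (Nat.ble (nat_lit 2944) i)) (Nat.ble (nat_lit 2816) i))
noncomputable def t2_48 (i : ℕ) : ℕ := (Bool.rec (Bool.rec (Bool.rec (t1_384 i) (t1_392 i) (Nat.ble (nat_lit 3136) i)) (Bool.rec (t1_400 i) (t1_408 i) (Nat.ble (nat_lit 3264) i)) (Nat.ble (nat_lit 3200) i)) (Bool.rec (Bool.rec (t1_416 i) (t1_424 i) (Nat.ble (nat_lit 3392) i)) (Bool.rec (t1_432 i) (t1_440 i) (Nat.ble (nat_lit 3520) i)) (Nat.ble (nat_lit 3456) i)) (Nat.ble (nat_lit 3328) i))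
noncomputable def t2_56 (i : ℕ) : ℕ := (Bool.rec (Bool.rec (Bool.rec (t1_448 i) (t1_456 i) (Nat.ble (nat_lit 3648) i)) (Bool.rec (t1_464 i) (t1_472 i) (Nat.ble (nat_lit 3776) i)) (Nat.ble (nat_lit 3712) i)) (Bool.rec (Bool.rec (t1_480 i) (t1_488 i) (Nat.ble (nat_lit 3904) i)) (Bool.rec (t1_496 i) (t1_504 i) (Nat.ble (nat_lit 4032) i)) (Nat.ble (nat_lit 3968) i)) (Nat.ble (nat_lit 3840) i))
noncomputable def t2_64 (i : ℕ) : ℕ := (Bool.rec (Bool.rec (Bool.rec (t1_512 i) (t1_520 i) (Nat.ble (nat_lit 4160) i)) (Bool.rec (t1_528 i) (t1_536 i) (Nat.ble (nat_lit 4288) i)) (Nat.ble (nat_lit 4224) i)) (Bool.rec (Bool.rec (t1_544 i) (t1_552 i) (Nat.ble (nat_lit 4416) i)) (Bool.rec (t1_560 i) (t1_568 i) (Nat.ble (nat_lit 4544) i)) (Nat.ble (nat_lit 4480) i)) (Nat.ble (nat_lit 4352) i))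
noncomputable def t2_72 (i : ℕ) : ℕ := (Bool.rec (Bool.rec (Bool.rec (t1_576 i) (t1_584 i) (Nat.ble (nat_lit 4672) i)) (Bool.rec (t1_592 i) (t1_600 i) (Nat.ble (nat_lit 4800) i)) (Nat.ble (nat_lit 4736) i)) (Bool.rec (Bool.rec (t1_608 i) (t1_616 i) (Nat.ble (nat_lit 4928) i)) (Bool.rec (t1_624 i) (t1_632 i) (Nat.ble (nat_lit 5056) i)) (Nat.ble (nat_lit 4992) i)) (Nat.ble (nat_lit 4864) i))
noncomputable def t2_80 (i : ℕ) : ℕ := (Bool.rec (Bool.rec (Bool.rec (t1_640 i) (t1_648 i) (Nat.ble (nat_lit 5184) i)) (Bool.rec (t1_656 i) (t1_664 i) (Nat.ble (nat_lit 5312) i)) (Nat.ble (nat_lit 5248) i)) (Bool.rec (Bool.rec (t1_672 i) (t1_680 i) (Nat.ble (nat_lit 5440) i)) (Bool.rec (t1_688 i) (t1_696 i) (Nat.ble (nat_lit 5568) i)) (Nat.ble (nat_lit 5504) i)) (Nat.ble (nat_lit 5376) i))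
noncomputable def t2_88 (i : ℕ) : ℕ := (Bool.rec (t1_704 i) (t1_712 i) (Nat.ble (nat_lit 5696) i))
noncomputable def t3_0 (i : ℕ) : ℕ := (Bool.rec (Bool.rec (Bool.rec (t2_0 i) (t2_8 i) (Nat.ble (nat_lit 512) i)) (Bool.rec (t2_16 i) (t2_24 i) (Nat.ble (nat_lit 1536) i)) (Nat.ble (nat_lit 1024) i)) (Bool.rec (Bool.rec (t2_32 i) (t2_40 i) (Nat.ble (nat_lit 2560) i)) (Bool.rec (t2_48 i) (t2_56 i) (Nat.ble (nat_lit 3584) i)) (Nat.ble (nat_lit 3072) i)) (Nat.ble (nat_lit 2048) i))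
noncomputable def t3_8 (i : ℕ) : ℕ := (Bool.rec (Bool.rec (t2_64 i) (t2_72 i) (Nat.ble (nat_lit 4608) i)) (Bool.rec (t2_80 i) (t2_88 i) (Nat.ble (nat_lit 5632) i)) (Nat.ble (nat_lit 5120) i))
noncomputable def t4_0 (i : ℕ) : ℕ := (Bool.rec (t3_0 i) (t3_8 i) (Nat.ble (nat_lit 4096) i))
noncomputable def blk (i : ℕ) : ℕ := (t4_0 i)
noncomputable def row (x : ℕ) : ℕ := frcN (Nat.shiftRight x (nat_lit 5)) fun b =>
  Nat.land (Nat.shiftRight (blk b) (Nat.mul (Nat.land x (nat_lit 31)) (nat_lit 341))) (nat_lit 0x1fffffffffffffffffffffffffffffffffffffffffffffffffffffffffffffffffffffffffffffffffffff)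
noncomputable def lk (x l : ℕ) : ℕ :=
  Nat.land (Nat.shiftRight (row x) (Nat.mul l (nat_lit 31))) (nat_lit 2147483647)
noncomputable def ap (x l : ℕ) : ℕ :=
  Nat.land (Nat.shiftRight (row x) (Nat.mul l (nat_lit 31))) (nat_lit 262143)
noncomputable def wt : Wt := (.node (nat_lit 69) (.node (nat_lit 34) (.node (nat_lit 17) (.node (nat_lit 8) (.node (nat_lit 4) (.node (nat_lit 2) (.node (nat_lit 1) (.leaf [nat_lit 7, nat_lit 0, nat_lit 5, nat_lit 7]) (.leaf [nat_lit 6, nat_lit 7])) (.node (nat_lit 3) (.leaf [nat_lit 2, nat_lit 3, nat_lit 6, nat_lit 3, nat_lit 6, nat_lit 2, nat_lit 7, nat_lit 3, nat_lit 7, nat_lit 3]) (.leaf [nat_lit 3, nat_lit 2, nat_lit 6, nat_lit 2, nat_lit 6, nat_lit 3, nat_lit 7, nat_lit 2, nat_lit 7, nat_lit 2]))) (.node (nat_lit 6) (.node (nat_lit 5) (.leaf [nat_lit 2, nat_lit 3, nat_lit 6, nat_lit 1, nat_lit 2, nat_lit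 3, nat_lit 6, nat_lit 1, nat_lit 2, nat_lit 3, nat_lit 6, nat_lit 1, nat_lit 2, nat_lit 3, nat_lit 6, nat_lit 1, nat_lit 2, nat_lit 3, nat_lit 6, nat_lit 1]) (.leaf [nat_lit 2, nat_lit 2])) (.node (nat_lit 7) (.leaf [nat_lit 1, nat_lit 2, nat_lit 6, nat_lit 2, nat_lit 6, nat_lit 1, nat_lit 2, nat_lit 6, nat_lit 2, nat_lit 1, nat_lit 6]) (.leaf [nat_lit 1, nat_lit 1])))) (.node (nat_lit 12) (.node (nat_lit 10) (.node (nat_lit 9) (.leaf [nat_lit 2, nat_lit 7, nat_lit 2, nat_lit 1, nat_lit 7, nat_lit 1, nat_lit 2, nat_lit 7, nat_lit 2, nat_lit 1, nat_lit 7]) (.leaf [nat_lit 4, nat_lit 3, nat_lit 6, nat_lit 3, nat_lit 6, nat_lit 4, nat_lit 3, nat_lit 6, nat_lit 3, nat_lit 4, nat_lit 6])) (.node (nat_lit 11) (.leaf [nat_lit 4, nat_lit 4]) (.leaf [nat_lit 3, nat_lit 7, nat_lit 3, nat_lit 4, nat_lit 7, nat_lit 4, nat_lit 3, nat_lit 7, nat_lit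 3, nat_lit 4, nat_lit 7]))) (.node (nat_lit 14) (.node (nat_lit 13) (.leaf [nat_lit 5, nat_lit 7, nat_lit 7, nat_lit 0]) (.leaf [nat_lit 3, nat_lit 0, nat_lit 3, nat_lit 0])) (.node (nat_lit 15) (.leaf [nat_lit 3, nat_lit 3]) (.node (nat_lit 16) (.leaf [nat_lit 5, nat_lit 3, nat_lit 5, nat_lit 3]) (.leaf [nat_lit 6, nat_lit 6, nat_lit 5, nat_lit 0])))))) (.node (nat_lit 25) (.node (nat_lit 21) (.node (nat_lit 19) (.node (nat_lit 18) (.leaf [nat_lit 7, nat_lit 6]) (.leaf [nat_lit 2, nat_lit 7, nat_lit 3, nat_lit 7, nat_lit 3, nat_lit 2, nat_lit 3, nat_lit 6, nat_lit 3, nat_lit 6])) (.node (nat_lit 20) (.leaf [nat_lit 3, nat_lit 1, nat_lit 3, nat_lit 1]) (.leaf [nat_lit 2, nat_lit 4, nat_lit 2, nat_lit 4]))) (.node (nat_lit 23) (.node (nat_lit 22) (.leaf [nat_lit 7, nat_lit 4, nat_lit 3, nat_lit 7, nat_lit 3, nat_lit 4, nat_lit 7, nat_lit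 3, nat_lit 7, nat_lit 3, nat_lit 4]) (.leaf [nat_lit 5, nat_lit 3, nat_lit 2, nat_lit 3, nat_lit 2, nat_lit 3, nat_lit 2, nat_lit 3, nat_lit 2, nat_lit 0])) (.node (nat_lit 24) (.leaf [nat_lit 3, nat_lit 6, nat_lit 2, nat_lit 7, nat_lit 3, nat_lit 7, nat_lit 3, nat_lit 2, nat_lit 3, nat_lit 6]) (.leaf [nat_lit 5, nat_lit 5])))) (.node (nat_lit 29) (.node (nat_lit 27) (.node (nat_lit 26) (.leaf [nat_lit 7, nat_lit 1, nat_lit 2, nat_lit 7, nat_lit 2, nat_lit 1, nat_lit 7, nat_lit 2, nat_lit 7, nat_lit 2, nat_lit 1]) (.leaf [nat_lit 1, nat_lit 4, nat_lit 1, nat_lit 4])) (.node (nat_lit 28) (.leaf [nat_lit 1, nat_lit 5, nat_lit 1, nat_lit 5]) (.leaf [nat_lit 2, nat_lit 0, nat_lit 2, nat_lit 0]))) (.node (nat_lit 31) (.node (nat_lit 30) (.leaf [nat_lit 2, nat_lit 1, nat_lit 2, nat_lit 1, nat_lit 2, nat_lit 1]) (.leaf [nat_lit 2, nat_lit 5, nat_lit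 2, nat_lit 5])) (.node (nat_lit 32) (.leaf [nat_lit 2, nat_lit 1, nat_lit 7, nat_lit 2, nat_lit 7, nat_lit 2, nat_lit 1, nat_lit 7, nat_lit 1, nat_lit 2, nat_lit 7]) (.node (nat_lit 33) (.leaf [nat_lit 3, nat_lit 7, nat_lit 2, nat_lit 7, nat_lit 2, nat_lit 3, nat_lit 2, nat_lit 6, nat_lit 2, nat_lit 6]) (.leaf [nat_lit 3, nat_lit 5, nat_lit 3, nat_lit 5]))))))) (.node (nat_lit 51) (.node (nat_lit 42) (.node (nat_lit 38) (.node (nat_lit 36) (.node (nat_lit 35) (.leaf [nat_lit 0, nat_lit 6, nat_lit 6, nat_lit 5]) (.leaf [nat_lit 5, nat_lit 0, nat_lit 5, nat_lit 0])) (.node (nat_lit 37) (.leaf [nat_lit 6, nat_lit 5, nat_lit 0, nat_lit 6]) (.leaf [nat_lit 5, nat_lit 0, nat_lit 6, nat_lit 6]))) (.node (nat_lit 40) (.node (nat_lit 39) (.leaf [nat_lit 0, nat_lit 0]) (.leaf [nat_lit 1, nat_lit 3, nat_lit 1, nat_lit 3])) (.node (nat_lit 41) (.leaf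 [nat_lit 0, nat_lit 5, nat_lit 0, nat_lit 5]) (.leaf [nat_lit 1, nat_lit 0, nat_lit 1, nat_lit 0, nat_lit 1, nat_lit 0])))) (.node (nat_lit 46) (.node (nat_lit 44) (.node (nat_lit 43) (.leaf [nat_lit 0, nat_lit 1, nat_lit 0, nat_lit 1, nat_lit 0, nat_lit 1]) (.leaf [nat_lit 6, nat_lit 3, nat_lit 6, nat_lit 2, nat_lit 7, nat_lit 3, nat_lit 7, nat_lit 3, nat_lit 2, nat_lit 3])) (.node (nat_lit 45) (.leaf [nat_lit 1, nat_lit 2, nat_lit 7, nat_lit 2, nat_lit 1, nat_lit 7, nat_lit 2, nat_lit 7, nat_lit 2, nat_lit 1, nat_lit 7]) (.leaf [nat_lit 4, nat_lit 0, nat_lit 4, nat_lit 0]))) (.node (nat_lit 48) (.node (nat_lit 47) (.leaf [nat_lit 3, nat_lit 4, nat_lit 3, nat_lit 4, nat_lit 3, nat_lit 4]) (.leaf [nat_lit 3, nat_lit 4, nat_lit 7, nat_lit 3, nat_lit 7, nat_lit 3, nat_lit 4, nat_lit 7, nat_lit 4, nat_lit 3, nat_lit 7])) (.node (nat_lit 49)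 (.leaf [nat_lit 4, nat_lit 5, nat_lit 4, nat_lit 5, nat_lit 4, nat_lit 5]) (.node (nat_lit 50) (.leaf [nat_lit 4, nat_lit 3, nat_lit 7, nat_lit 3, nat_lit 4, nat_lit 7, nat_lit 3, nat_lit 7, nat_lit 3, nat_lit 4, nat_lit 7]) (.leaf [nat_lit 5, nat_lit 4, nat_lit 5, nat_lit 4, nat_lit 5, nat_lit 4])))))) (.node (nat_lit 60) (.node (nat_lit 55) (.node (nat_lit 53) (.node (nat_lit 52) (.leaf [nat_lit 4, nat_lit 1, nat_lit 4, nat_lit 1]) (.leaf [nat_lit 5, nat_lit 1, nat_lit 5, nat_lit 1])) (.node (nat_lit 54) (.leaf [nat_lit 1, nat_lit 2, nat_lit 1, nat_lit 2, nat_lit 1, nat_lit 2]) (.leaf [nat_lit 6, nat_lit 2, nat_lit 6, nat_lit 3, nat_lit 7, nat_lit 2, nat_lit 7, nat_lit 2, nat_lit 3, nat_lit 2]))) (.node (nat_lit 57) (.node (nat_lit 56) (.leaf [nat_lit 6, nat_lit 1, nat_lit 2, nat_lit 6, nat_lit 2, nat_lit 6, nat_lit 1, nat_lit 2, nat_lit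 6, nat_lit 2, nat_lit 1]) (.leaf [nat_lit 0, nat_lit 4, nat_lit 0, nat_lit 4])) (.node (nat_lit 58) (.leaf [nat_lit 7, nat_lit 7, nat_lit 0, nat_lit 5]) (.node (nat_lit 59) (.leaf [nat_lit 7, nat_lit 2, nat_lit 1, nat_lit 7, nat_lit 1, nat_lit 2, nat_lit 7, nat_lit 2, nat_lit 1, nat_lit 7, nat_lit 2]) (.leaf [nat_lit 2, nat_lit 1, nat_lit 6, nat_lit 1, nat_lit 2, nat_lit 6, nat_lit 2, nat_lit 6, nat_lit 1, nat_lit 2, nat_lit 6]))))) (.node (nat_lit 64) (.node (nat_lit 62) (.node (nat_lit 61) (.leaf [nat_lit 6, nat_lit 2, nat_lit 1, nat_lit 6, nat_lit 1, nat_lit 2, nat_lit 6, nat_lit 2, nat_lit 6, nat_lit 1, nat_lit 2]) (.leaf [nat_lit 4, nat_lit 2, nat_lit 4, nat_lit 2])) (.node (nat_lit 63) (.leaf [nat_lit 0, nat_lit 3, nat_lit 0, nat_lit 3]) (.leaf [nat_lit 0, nat_lit 2, nat_lit 0, nat_lit 2]))) (.node (nat_lit 66) (.node (nat_lit 65)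 (.leaf [nat_lit 5, nat_lit 2, nat_lit 5, nat_lit 2]) (.leaf [nat_lit 2, nat_lit 6, nat_lit 3, nat_lit 7, nat_lit 2, nat_lit 7, nat_lit 2, nat_lit 3, nat_lit 2, nat_lit 6])) (.node (nat_lit 67) (.leaf [nat_lit 2, nat_lit 7, nat_lit 2, nat_lit 3, nat_lit 2, nat_lit 6, nat_lit 2, nat_lit 6, nat_lit 3, nat_lit 7]) (.node (nat_lit 68) (.leaf [nat_lit 4, nat_lit 3, nat_lit 4, nat_lit 3, nat_lit 4, nat_lit 3]) (.leaf [nat_lit 7, nat_lit 2, nat_lit 3, nat_lit 2, nat_lit 6, nat_lit 2, nat_lit 6, nat_lit 3, nat_lit 7, nat_lit 2])))))))) (.node (nat_lit 103) (.node (nat_lit 86) (.node (nat_lit 77) (.node (nat_lit 73) (.node (nat_lit 71) (.node (nat_lit 70) (.leaf [nat_lit 2, nat_lit 7, nat_lit 2, nat_lit 1, nat_lit 7, nat_lit 2, nat_lit 7, nat_lit 2, nat_lit 1, nat_lit 7, nat_lit 1]) (.leaf [nat_lit 7, nat_lit 3, nat_lit 7, nat_lit 3, nat_lit 2, nat_lit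 3, nat_lit 6, nat_lit 3, nat_lit 6, nat_lit 2])) (.node (nat_lit 72) (.leaf [nat_lit 0, nat_lit 5, nat_lit 7, nat_lit 7]) (.leaf [nat_lit 2, nat_lit 3, nat_lit 2, nat_lit 6, nat_lit 2, nat_lit 6, nat_lit 3, nat_lit 7, nat_lit 2, nat_lit 7]))) (.node (nat_lit 75) (.node (nat_lit 74) (.leaf [nat_lit 2, nat_lit 6, nat_lit 2, nat_lit 6, nat_lit 1, nat_lit 2, nat_lit 6, nat_lit 2, nat_lit 1, nat_lit 6, nat_lit 1]) (.leaf [nat_lit 1, nat_lit 7, nat_lit 1, nat_lit 2, nat_lit 7, nat_lit 2, nat_lit 1, nat_lit 7, nat_lit 2, nat_lit 7, nat_lit 2])) (.node (nat_lit 76) (.leaf [nat_lit 7, nat_lit 3, nat_lit 2, nat_lit 3, nat_lit 6, nat_lit 3, nat_lit 6, nat_lit 2, nat_lit 7, nat_lit 3]) (.leaf [nat_lit 3, nat_lit 7, nat_lit 3, nat_lit 2, nat_lit 3, nat_lit 6, nat_lit 3, nat_lit 6, nat_lit 2, nat_lit 7])))) (.node (nat_lit 81) (.node (nat_lit 79) (.node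 (nat_lit 78) (.leaf [nat_lit 3, nat_lit 2, nat_lit 3, nat_lit 6, nat_lit 3, nat_lit 6, nat_lit 2, nat_lit 7, nat_lit 3, nat_lit 7]) (.leaf [nat_lit 2, nat_lit 3, nat_lit 2, nat_lit 3, nat_lit 2, nat_lit 0, nat_lit 5, nat_lit 3, nat_lit 2, nat_lit 3])) (.node (nat_lit 80) (.leaf [nat_lit 2, nat_lit 6, nat_lit 2, nat_lit 6, nat_lit 3, nat_lit 7, nat_lit 2, nat_lit 7, nat_lit 2, nat_lit 3]) (.leaf [nat_lit 7, nat_lit 3, nat_lit 4, nat_lit 7, nat_lit 4, nat_lit 3, nat_lit 7, nat_lit 3, nat_lit 4, nat_lit 7, nat_lit 3]))) (.node (nat_lit 83) (.node (nat_lit 82) (.leaf [nat_lit 6, nat_lit 3, nat_lit 4, nat_lit 6, nat_lit 4, nat_lit 3, nat_lit 6, nat_lit 3, nat_lit 6, nat_lit 4, nat_lit 3]) (.leaf [nat_lit 3, nat_lit 6, nat_lit 4, nat_lit 3, nat_lit 6, nat_lit 3, nat_lit 4, nat_lit 6, nat_lit 4, nat_lit 3, nat_lit 6])) (.node (nat_lit 84) (.leaf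 [nat_lit 4, nat_lit 6, nat_lit 4, nat_lit 3, nat_lit 6, nat_lit 3, nat_lit 6, nat_lit 4, nat_lit 3, nat_lit 6, nat_lit 3]) (.node (nat_lit 85) (.leaf [nat_lit 3, nat_lit 6, nat_lit 3, nat_lit 4, nat_lit 6, nat_lit 4, nat_lit 3, nat_lit 6, nat_lit 3, nat_lit 6, nat_lit 4]) (.leaf [nat_lit 6, nat_lit 2, nat_lit 7, nat_lit 3, nat_lit 7, nat_lit 3, nat_lit 2, nat_lit 3, nat_lit 6, nat_lit 3])))))) (.node (nat_lit 94) (.node (nat_lit 90) (.node (nat_lit 88) (.node (nat_lit 87) (.leaf [nat_lit 6, nat_lit 3, nat_lit 7, nat_lit 2, nat_lit 7, nat_lit 2, nat_lit 3, nat_lit 2, nat_lit 6, nat_lit 2]) (.leaf [nat_lit 7, nat_lit 3, nat_lit 4, nat_lit 7, nat_lit 3, nat_lit 7, nat_lit 3, nat_lit 4, nat_lit 7, nat_lit 4, nat_lit 3])) (.node (nat_lit 89) (.leaf [nat_lit 7, nat_lit 3, nat_lit 7, nat_lit 3, nat_lit 4, nat_lit 7, nat_lit 4, nat_lit 3, nat_lit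 7, nat_lit 3, nat_lit 4]) (.leaf [nat_lit 3, nat_lit 2, nat_lit 3, nat_lit 2, nat_lit 3, nat_lit 2, nat_lit 0, nat_lit 5, nat_lit 3, nat_lit 2]))) (.node (nat_lit 92) (.node (nat_lit 91) (.leaf [nat_lit 2, nat_lit 3, nat_lit 2, nat_lit 3, nat_lit 2, nat_lit 3, nat_lit 2, nat_lit 0, nat_lit 5, nat_lit 3]) (.leaf [nat_lit 0, nat_lit 5, nat_lit 3, nat_lit 2, nat_lit 3, nat_lit 2, nat_lit 3, nat_lit 2, nat_lit 3, nat_lit 2])) (.node (nat_lit 93) (.leaf [nat_lit 2, nat_lit 0, nat_lit 5, nat_lit 3, nat_lit 2, nat_lit 3, nat_lit 2, nat_lit 3, nat_lit 2, nat_lit 3]) (.leaf [nat_lit 1, nat_lit 2, nat_lit 3, nat_lit 6, nat_lit 1, nat_lit 2, nat_lit 3, nat_lit 6, nat_lit 1, nat_lit 2, nat_lit 3, nat_lit 6, nat_lit 1, nat_lit 2, nat_lit 3, nat_lit 6, nat_lit 1, nat_lit 2, nat_lit 3, nat_lit 6])))) (.node (nat_lit 98) (.node (nat_lit 96) (.node (nat_lit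 95) (.leaf [nat_lit 6, nat_lit 2, nat_lit 6, nat_lit 1, nat_lit 2, nat_lit 6, nat_lit 2, nat_lit 1, nat_lit 6, nat_lit 1, nat_lit 2]) (.leaf [nat_lit 3, nat_lit 7, nat_lit 3, nat_lit 4, nat_lit 7, nat_lit 3, nat_lit 7, nat_lit 3, nat_lit 4, nat_lit 7, nat_lit 4])) (.node (nat_lit 97) (.leaf [nat_lit 6, nat_lit 1, nat_lit 2, nat_lit 6, nat_lit 2, nat_lit 1, nat_lit 6, nat_lit 1, nat_lit 2, nat_lit 6, nat_lit 2]) (.leaf [nat_lit 3, nat_lit 4, nat_lit 6, nat_lit 4, nat_lit 3, nat_lit 6, nat_lit 3, nat_lit 6, nat_lit 4, nat_lit 3, nat_lit 6]))) (.node (nat_lit 100) (.node (nat_lit 99) (.leaf [nat_lit 2, nat_lit 6, nat_lit 1, nat_lit 2, nat_lit 6, nat_lit 2, nat_lit 1, nat_lit 6, nat_lit 1, nat_lit 2, nat_lit 6]) (.leaf [nat_lit 1, nat_lit 7, nat_lit 2, nat_lit 7, nat_lit 2, nat_lit 1, nat_lit 7, nat_lit 1, nat_lit 2, nat_lit 7, nat_lit 2]))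 (.node (nat_lit 101) (.leaf [nat_lit 7, nat_lit 3, nat_lit 2, nat_lit 1, nat_lit 7, nat_lit 3, nat_lit 2, nat_lit 1, nat_lit 7, nat_lit 3, nat_lit 2, nat_lit 1, nat_lit 7, nat_lit 3, nat_lit 2, nat_lit 1, nat_lit 7, nat_lit 3, nat_lit 2, nat_lit 1]) (.node (nat_lit 102) (.leaf [nat_lit 1, nat_lit 6, nat_lit 1, nat_lit 2, nat_lit 6, nat_lit 2, nat_lit 6, nat_lit 1, nat_lit 2, nat_lit 6, nat_lit 2]) (.leaf [nat_lit 6, nat_lit 4, nat_lit 3, nat_lit 6, nat_lit 3, nat_lit 6, nat_lit 4, nat_lit 3, nat_lit 6, nat_lit 3, nat_lit 4]))))))) (.node (nat_lit 120) (.node (nat_lit 111) (.node (nat_lit 107) (.node (nat_lit 105) (.node (nat_lit 104) (.leaf [nat_lit 6, nat_lit 3, nat_lit 6, nat_lit 4, nat_lit 3, nat_lit 6, nat_lit 3, nat_lit 4, nat_lit 6, nat_lit 4, nat_lit 3]) (.leaf [nat_lit 7, nat_lit 2, nat_lit 1, nat_lit 7, nat_lit 2, nat_lit 7, nat_lit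 2, nat_lit 1, nat_lit 7, nat_lit 1, nat_lit 2])) (.node (nat_lit 106) (.leaf [nat_lit 7, nat_lit 2, nat_lit 7, nat_lit 2, nat_lit 3, nat_lit 2, nat_lit 6, nat_lit 2, nat_lit 6, nat_lit 3]) (.leaf [nat_lit 2, nat_lit 1, nat_lit 7, nat_lit 1, nat_lit 2, nat_lit 7, nat_lit 2, nat_lit 1, nat_lit 7, nat_lit 2, nat_lit 7]))) (.node (nat_lit 109) (.node (nat_lit 108) (.leaf [nat_lit 5, nat_lit 0, nat_lit 2, nat_lit 3, nat_lit 2, nat_lit 3, nat_lit 2, nat_lit 3, nat_lit 2, nat_lit 3]) (.leaf [nat_lit 2, nat_lit 6, nat_lit 2, nat_lit 1, nat_lit 6, nat_lit 1, nat_lit 2, nat_lit 6, nat_lit 2, nat_lit 6, nat_lit 1])) (.node (nat_lit 110) (.leaf [nat_lit 1, nat_lit 2, nat_lit 6, nat_lit 2, nat_lit 1, nat_lit 6, nat_lit 1, nat_lit 2, nat_lit 6, nat_lit 2, nat_lit 6]) (.leaf [nat_lit 3, nat_lit 4, nat_lit 7, nat_lit 4, nat_lit 3, nat_lit 7, nat_lit 3,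 nat_lit 4, nat_lit 7, nat_lit 3, nat_lit 7])))) (.node (nat_lit 115) (.node (nat_lit 113) (.node (nat_lit 112) (.leaf [nat_lit 3, nat_lit 2, nat_lit 1, nat_lit 7, nat_lit 3, nat_lit 2, nat_lit 1, nat_lit 7, nat_lit 3, nat_lit 2, nat_lit 1, nat_lit 7, nat_lit 3, nat_lit 2, nat_lit 1, nat_lit 7, nat_lit 3, nat_lit 2, nat_lit 1, nat_lit 7]) (.leaf [nat_lit 3, nat_lit 6, nat_lit 1, nat_lit 2, nat_lit 3, nat_lit 6, nat_lit 1, nat_lit 2, nat_lit 3, nat_lit 6, nat_lit 1, nat_lit 2, nat_lit 3, nat_lit 6, nat_lit 1, nat_lit 2, nat_lit 3, nat_lit 6, nat_lit 1, nat_lit 2])) (.node (nat_lit 114) (.leaf [nat_lit 4, nat_lit 7, nat_lit 3, nat_lit 7, nat_lit 3, nat_lit 4, nat_lit 7, nat_lit 4, nat_lit 3, nat_lit 7, nat_lit 3]) (.leaf [nat_lit 3, nat_lit 6, nat_lit 3, nat_lit 6, nat_lit 4, nat_lit 3, nat_lit 6, nat_lit 3, nat_lit 4, nat_lit 6, nat_lit 4])))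 (.node (nat_lit 117) (.node (nat_lit 116) (.leaf [nat_lit 3, nat_lit 6, nat_lit 3, nat_lit 6, nat_lit 2, nat_lit 7, nat_lit 3, nat_lit 7, nat_lit 3, nat_lit 2]) (.leaf [nat_lit 4, nat_lit 3, nat_lit 6, nat_lit 3, nat_lit 4, nat_lit 6, nat_lit 4, nat_lit 3, nat_lit 6, nat_lit 3, nat_lit 6])) (.node (nat_lit 118) (.leaf [nat_lit 6, nat_lit 4, nat_lit 3, nat_lit 6, nat_lit 3, nat_lit 4, nat_lit 6, nat_lit 4, nat_lit 3, nat_lit 6, nat_lit 3]) (.node (nat_lit 119) (.leaf [nat_lit 7, nat_lit 2, nat_lit 7, nat_lit 2, nat_lit 1, nat_lit 7, nat_lit 1, nat_lit 2, nat_lit 7, nat_lit 2, nat_lit 1]) (.leaf [nat_lit 4, nat_lit 7, nat_lit 4, nat_lit 3, nat_lit 7, nat_lit 3, nat_lit 4, nat_lit 7, nat_lit 3, nat_lit 7, nat_lit 3])))))) (.node (nat_lit 129) (.node (nat_lit 124) (.node (nat_lit 122) (.node (nat_lit 121) (.leaf [nat_lit 3, nat_lit 2, nat_lit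 3, nat_lit 2, nat_lit 3, nat_lit 2, nat_lit 3, nat_lit 5, nat_lit 0, nat_lit 2]) (.leaf [nat_lit 3, nat_lit 2, nat_lit 3, nat_lit 2, nat_lit 3, nat_lit 2, nat_lit 3, nat_lit 2, nat_lit 0, nat_lit 5])) (.node (nat_lit 123) (.leaf [nat_lit 3, nat_lit 5, nat_lit 0, nat_lit 2, nat_lit 3, nat_lit 2, nat_lit 3, nat_lit 2, nat_lit 3, nat_lit 2]) (.leaf [nat_lit 2, nat_lit 3, nat_lit 2, nat_lit 0, nat_lit 5, nat_lit 3, nat_lit 2, nat_lit 3, nat_lit 2, nat_lit 3]))) (.node (nat_lit 126) (.node (nat_lit 125) (.leaf [nat_lit 3, nat_lit 2, nat_lit 3, nat_lit 5, nat_lit 0, nat_lit 2, nat_lit 3, nat_lit 2, nat_lit 3, nat_lit 2]) (.leaf [nat_lit 2, nat_lit 3, nat_lit 5, nat_lit 0, nat_lit 2, nat_lit 3, nat_lit 2, nat_lit 3, nat_lit 2, nat_lit 3])) (.node (nat_lit 127) (.leaf [nat_lit 3, nat_lit 2, nat_lit 3, nat_lit 2, nat_lit 0, nat_lit 5, nat_lit 3,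 nat_lit 2, nat_lit 3, nat_lit 2]) (.node (nat_lit 128) (.leaf [nat_lit 3, nat_lit 2, nat_lit 0, nat_lit 5, nat_lit 3, nat_lit 2, nat_lit 3, nat_lit 2, nat_lit 3, nat_lit 2]) (.leaf [nat_lit 0, nat_lit 2, nat_lit 3, nat_lit 2, nat_lit 3, nat_lit 2, nat_lit 3, nat_lit 2, nat_lit 3, nat_lit 5]))))) (.node (nat_lit 133) (.node (nat_lit 131) (.node (nat_lit 130) (.leaf [nat_lit 6, nat_lit 1, nat_lit 2, nat_lit 3, nat_lit 6, nat_lit 1, nat_lit 2, nat_lit 3, nat_lit 6, nat_lit 1, nat_lit 2, nat_lit 3, nat_lit 6, nat_lit 1, nat_lit 2, nat_lit 3, nat_lit 6, nat_lit 1, nat_lit 2, nat_lit 3]) (.leaf [nat_lit 1, nat_lit 7, nat_lit 3, nat_lit 2, nat_lit 1, nat_lit 7, nat_lit 3, nat_lit 2, nat_lit 1, nat_lit 7, nat_lit 3, nat_lit 2, nat_lit 1, nat_lit 7, nat_lit 3, nat_lit 2, nat_lit 1, nat_lit 7, nat_lit 3, nat_lit 2])) (.node (nat_lit 132) (.leaf [nat_lit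 2, nat_lit 1, nat_lit 7, nat_lit 3, nat_lit 2, nat_lit 1, nat_lit 7, nat_lit 3, nat_lit 2, nat_lit 1, nat_lit 7, nat_lit 3, nat_lit 2, nat_lit 1, nat_lit 7, nat_lit 3, nat_lit 2, nat_lit 1, nat_lit 7, nat_lit 3]) (.leaf [nat_lit 2, nat_lit 3, nat_lit 2, nat_lit 3, nat_lit 2, nat_lit 3, nat_lit 2, nat_lit 3, nat_lit 5, nat_lit 0]))) (.node (nat_lit 135) (.node (nat_lit 134) (.leaf [nat_lit 2, nat_lit 3, nat_lit 2, nat_lit 3, nat_lit 5, nat_lit 0, nat_lit 2, nat_lit 3, nat_lit 2, nat_lit 3]) (.leaf [nat_lit 3, nat_lit 2, nat_lit 3, nat_lit 2, nat_lit 3, nat_lit 2, nat_lit 3, nat_lit 2, nat_lit 3, nat_lit 2, nat_lit 3, nat_lit 2, nat_lit 3, nat_lit 2, nat_lit 3, nat_lit 2])) (.node (nat_lit 136) (.leaf [nat_lit 2, nat_lit 3, nat_lit 2, nat_lit 3, nat_lit 2, nat_lit 3, nat_lit 2, nat_lit 3, nat_lit 2, nat_lit 3, nat_lit 2, nat_lit 3, nat_lit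 2, nat_lit 3, nat_lit 2, nat_lit 3]) (.node (nat_lit 137) (.leaf [nat_lit 2, nat_lit 3, nat_lit 2, nat_lit 3, nat_lit 2, nat_lit 3, nat_lit 5, nat_lit 0, nat_lit 2, nat_lit 3]) (.leaf [nat_lit 3, nat_lit 2, nat_lit 3, nat_lit 2, nat_lit 3, nat_lit 5, nat_lit 0, nat_lit 2, nat_lit 3, nat_lit 2])))))))))
noncomputable def P : TCP where
  lk := lk
  inv := (invT (nat_lit 26874752016448) (nat_lit 8))
  wt := wt.get
  gens := [nat_lit 0, nat_lit 1, nat_lit 2, nat_lit 3, nat_lit 4, nat_lit 5, nat_lit 6, nat_lit 7]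
  N := nat_lit 182749
  n := nat_lit 122760
  eps := nat_lit 8
  VM := nat_lit 262143
  Wv := nat_lit 18
  MAXB := nat_lit 2147221504
  JM := nat_lit 511
  Wj := nat_lit 9
  Hm := nat_lit 63
def ls : List Nat := [nat_lit 0, nat_lit 1, nat_lit 2, nat_lit 3, nat_lit 4, nat_lit 5, nat_lit 6, nat_lit 7, nat_lit 8]
def cl1 : Cl := (.gen (nat_lit 0) (.gen (nat_lit 1) (.gen (nat_lit 2) (.gen (nat_lit 3) (.gen (nat_lit 4) (.gen (nat_lit 5) (.gen (nat_lit 6) (.gen (nat_lit 7) (.opt (nat_lit 8) .nil)))))))))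
def cl2 : Cl := (.opt (nat_lit 0) (.opt (nat_lit 1) (.opt (nat_lit 2) (.opt (nat_lit 3) (.opt (nat_lit 4) (.opt (nat_lit 5) (.opt (nat_lit 6) (.opt (nat_lit 7) (.opt (nat_lit 8) .nil)))))))))
noncomputable def chk : ℕ → List ℕ → ℕ → Bool :=
  rows2 (nat_lit 122760) (parOk P) (cols2 lk (nat_lit 2147221504) (nat_lit 122760) (nat_lit 182749) (ent1 (nat_lit 262143) (nat_lit 511) (nat_lit 9) (decJ wt.get)
    (ent2 lk (nat_lit 262143) (special P) (slowE lk (invT (nat_lit 26874752016448) (nat_lit 8)) (nat_lit 182749) (nat_lit 8) (nat_lit 262143) (nat_lit 20))))) cl1 cl2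
theorem rg {x y : ℕ} (Js : List ℕ) (h : chk y Js x = true) : RowsGood P ls x y :=
  rowsGood_of2 (c1 := cl1) (c2 := cl2) (by decide +kernel) h
def bases : List (List Nat × Nat) := [([0, 0], 1), ([0, 1], 3), ([0, 2], 2), ([0, 3], 2), ([0, 4], 2), ([0, 5], 2), ([1, 1], 1), ([1, 2], 3), ([1, 3], 2), ([1, 4], 2), ([1, 5], 2), ([2, 2], 1), ([2, 3], 8), ([2, 4], 2), ([2, 5], 2), ([3, 3], 1), ([3, 4], 3), ([3, 5], 2), ([4, 4], 1), ([4, 5], 3), ([5, 5], 1), ([0, 5, 7, 7], 1), ([0, 5, 3, 2, 3, 2, 3, 2, 3, 2], 1), ([2, 7, 3, 7, 3, 2, 3, 6, 3, 6], 1), ([3, 7, 2, 7, 2, 3, 2, 6, 2, 6], 1), ([1, 2, 3, 6], 5), ([6, 1, 2, 6, 2, 1, 6, 1, 2, 6, 2], 1), ([6, 4, 3, 6, 3, 4, 6, 4, 3, 6, 3], 1)]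

end Cfsg.Agent.H15.ONa
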